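import Groth.Agent.ArNF.Ring

/-! The two branches of `k⟦x, y⟧/(y² - x^(2q))` and its involutions. -/

set_option autoImplicit false
set_option linter.all false
universe u

noncomputable section

namespace Groth.Agent.ArNF

open PowerSeries

variable {k : Type u} [Field k] {r q : ℕ} (hr : r + 1 = 2 * q)

include hr in
theorem q_ne : q ≠ 0 := by omega

local notation "A" => ArSing.ring k r

theorem C_mul_self {e : k} (he : e * e = 1) : (C e : k⟦X⟧) * C e = 1 := by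
  rw [← map_mul, he, map_one]

/-- The branch `x ↦ t`, `y ↦ e t^q`. -/
def br (e : k) (he : e * e = 1) : A →ₐ[k] k⟦X⟧ :=
  toPS r X (C e * X ^ q) constantCoeff_X
    (by rw [map_mul, map_pow, constantCoeff_X, zero_pow (q_ne hr), mul_zero])
    (by rw [mul_pow, sq, C_mul_self he, one_mul, ← pow_mul, hr, mul_comm])

@[simp] theorem br_x (e : k) (he : e * e = 1) : br hr e he (ArSing.x k r) = X := toPS_x ..

@[simp] theorem br_y (e : k) (he : e * e = 1) : br hr e he (ArSing.y k r) = C e * X ^ q := toPS_y ..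

abbrev pp : A →ₐ[k] k⟦X⟧ := br hr 1 (by norm_num)
abbrev pm : A →ₐ[k] k⟦X⟧ := br hr (-1) (by norm_num)

theorem br_xMap (e : k) (he : e * e = 1) (f : k⟦X⟧) : br hr e he (ArSing.xMap k r f) = f :=
  eq_id_of_map_X ((br hr e he).comp (ArSing.xMap k r)) (by rw [AlgHom.comp_apply, xMap_X, br_x]) f

theorem br_decomp (e : k) (he : e * e = 1) (f g : k⟦X⟧) :
    br hr e he (ArSing.xMap k r f + ArSing.xMap k r g * ArSing.y k r) = f + g * (C e * X ^ q) := by
  rw [map_add, map_mul, br_xMap, br_xMap, br_y]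

theorem half_mul (h2 : (2 : k) ≠ 0) (f : k⟦X⟧) : C (2⁻¹ : k) * (f + f) = f := by
  rw [← two_mul, ← mul_assoc, show (2 : k⟦X⟧) = C (2 : k) from (map_ofNat C 2).symm,
    ← map_mul, inv_mul_cancel₀ h2, map_one, one_mul]

theorem br_injective (h2 : (2 : k) ≠ 0) {a b : A} (h₁ : pp hr a = pp hr b)
    (h₂ : pm hr a = pm hr b) : a = b := by
  obtain ⟨f, g, rfl⟩ := exists_decomp r a
  obtain ⟨f', g', rfl⟩ := exists_decomp r b
  simp only [br_decomp, map_one, map_neg] at h₁ h₂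
  have e1 : f + f = f' + f' := by linear_combination h₁ + h₂
  have e2 : (g + g) * X ^ q = (g' + g') * X ^ q := by linear_combination h₁ - h₂
  have hf : f = f' := by rw [← half_mul h2 f, e1, half_mul h2]
  have hg : g = g' := by
    rw [← half_mul h2 g, mul_right_cancel₀ (pow_ne_zero q X_ne_zero) e2, half_mul h2]
  rw [hf, hg]

theorem sub_dvd (a : A) : (X : k⟦X⟧) ^ q ∣ pp hr a - pm hr a := by
  obtain ⟨f, g, rfl⟩ := exists_decomp r a
  exact ⟨g + g, by simp only [br_decomp, map_one, map_neg]; ring⟩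

theorem exists_pair (h2 : (2 : k) ≠ 0) {a b : k⟦X⟧} (h : (X : k⟦X⟧) ^ q ∣ a - b) :
    ∃ c : A, pp hr c = a ∧ pm hr c = b := by
  obtain ⟨d, hd⟩ := h
  refine ⟨ArSing.xMap k r (C (2⁻¹ : k) * (a + b)) + ArSing.xMap k r (C (2⁻¹ : k) * d) *
    ArSing.y k r, ?_, ?_⟩
  · simp only [br_decomp, map_one, map_neg]
    calc _ = C (2⁻¹ : k) * (a + b + X ^ q * d) := by ring
      _ = C (2⁻¹ : k) * (a + a) := by rw [← hd]; ring
      _ = a := half_mul h2 a
  · simp only [br_decomp, map_one, map_neg]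
    calc _ = C (2⁻¹ : k) * (a + b - X ^ q * d) := by ring
      _ = C (2⁻¹ : k) * (b + b) := by rw [← hd]; ring
      _ = b := half_mul h2 b

/-- An automorphism with `x ↦ P`, `y ↦ Q`. -/
theorem exists_aut (h2 : (2 : k) ≠ 0) (e : k) (he : e = 1 ∨ e = -1) (P Q : A)
    (p₁ p₂ : k⟦X⟧) (hp₁ : constantCoeff p₁ = 0) (hp₂ : constantCoeff p₂ = 0)
    (hc₁ : coeff 1 p₁ ≠ 0) (hc₂ : coeff 1 p₂ ≠ 0)
    (hP₁ : pp hr P = p₁) (hP₂ : pm hr P = p₂)
    (hQ₁ : pp hr Q = C e * p₁ ^ q) (hQ₂ : pm hr Q = C (-e) * p₂ ^ q) :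
    ∃ φ : A ≃ₐ[k] A, φ (ArSing.x k r) = P ∧ φ (ArSing.y k r) = Q := by
  have hee : e * e = 1 := by rcases he with rfl | rfl <;> norm_num
  have hee' : (-e) * (-e) = 1 := by rw [neg_mul_neg, hee]
  have hQP : Q ^ 2 = P ^ (r + 1) := by
    refine br_injective hr h2 ?_ ?_
    · rw [map_pow, map_pow, hQ₁, hP₁, mul_pow, sq, C_mul_self hee, one_mul, ← pow_mul, hr, mul_comm]
    · rw [map_pow, map_pow, hQ₂, hP₂, mul_pow, sq, C_mul_self hee', one_mul, ← pow_mul, hr, mul_comm]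
  obtain ⟨φ, hφx, hφy⟩ := exists_endo r (pp hr) P Q (by rw [hP₁, hp₁])
    (by rw [hQ₁, map_mul, map_pow, hp₁, zero_pow (q_ne hr), mul_zero]) hQP
  have h₁ : (pp hr).comp φ = (sb p₁ hp₁).comp (br hr e hee) := algHom_ext r
    (by rw [AlgHom.comp_apply, AlgHom.comp_apply, hφx, hP₁, br_x, sb_X])
    (by rw [AlgHom.comp_apply, AlgHom.comp_apply, hφy, hQ₁, br_y, map_mul, map_pow, sb_X]
        exact congrArg (· * p₁ ^ q) ((sb p₁ hp₁).commutes e).symm)
  have h₂ : (pm hr).comp φ = (sb p₂ hp₂).comp (br hr (-e) hee') := algHom_ext r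
    (by rw [AlgHom.comp_apply, AlgHom.comp_apply, hφx, hP₂, br_x, sb_X])
    (by rw [AlgHom.comp_apply, AlgHom.comp_apply, hφy, hQ₂, br_y, map_mul, map_pow, sb_X]
        exact congrArg (· * p₂ ^ q) ((sb p₂ hp₂).commutes (-e)).symm)
  have hboth : ∀ {a b : A}, br hr e hee a = br hr e hee b → br hr (-e) hee' a = br hr (-e) hee' b →
      a = b := by
    intro a b ha hb
    rcases he with rfl | rfl
    · exact br_injective hr h2 ha hb
    · simp only [neg_neg] at hb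
      exact br_injective hr h2 hb ha
  have hinj : Function.Injective φ := by
    intro a b h
    refine hboth ((sb_bijective p₁ hp₁ hc₁).1 ?_) ((sb_bijective p₂ hp₂ hc₂).1 ?_)
    · rw [← AlgHom.comp_apply, ← h₁, AlgHom.comp_apply, h, ← AlgHom.comp_apply, h₁]; rfl
    · rw [← AlgHom.comp_apply, ← h₂, AlgHom.comp_apply, h, ← AlgHom.comp_apply, h₂]; rfl
  have hsurj : Function.Surjective φ := by
    intro a
    obtain ⟨f₁, hf₁⟩ := (sb_bijective p₁ hp₁ hc₁).2 (pp hr a)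
    obtain ⟨f₂, hf₂⟩ := (sb_bijective p₂ hp₂ hc₂).2 (pm hr a)
    have hp : (X : k⟦X⟧) ^ q ∣ p₁ - p₂ := by rw [← hP₁, ← hP₂]; exact sub_dvd hr P
    have hsb : (X : k⟦X⟧) ^ q ∣ sb p₁ hp₁ f₁ - sb p₂ hp₂ f₁ := by
      have := sub_dvd hr (ArSing.xMap k r f₁ |> φ)
      rwa [show pp hr (φ (ArSing.xMap k r f₁)) = _ from AlgHom.congr_fun h₁ _,
        show pm hr (φ (ArSing.xMap k r f₁)) = _ from AlgHom.congr_fun h₂ _,
        AlgHom.comp_apply, AlgHom.comp_apply, br_xMap, br_xMap] at this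
    have hd : (X : k⟦X⟧) ^ q ∣ f₁ - f₂ := by
      refine dvd_of_dvd_sb p₂ hp₂ hc₂ ?_
      have := dvd_sub (sub_dvd hr a) hsb
      rw [← hf₁, ← hf₂] at this
      rw [map_sub]
      convert this using 1
      ring
    have hd' : (X : k⟦X⟧) ^ q ∣ f₂ - f₁ := by rw [← neg_sub]; exact hd.neg_right
    obtain ⟨c, hc1, hc2⟩ : ∃ c : A, br hr e hee c = f₁ ∧ br hr (-e) hee' c = f₂ := by
      rcases he with rfl | rfl
      · exact exists_pair hr h2 hd
      · obtain ⟨c, a, b⟩ := exists_pair hr h2 hd'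
        refine ⟨c, b, ?_⟩
        simp only [neg_neg]
        exact a
    refine ⟨c, br_injective hr h2 ?_ ?_⟩
    · rw [show pp hr (φ c) = _ from AlgHom.congr_fun h₁ c, AlgHom.comp_apply, hc1, hf₁]
    · rw [show pm hr (φ c) = _ from AlgHom.congr_fun h₂ c, AlgHom.comp_apply, hc2, hf₂]
  exact ⟨AlgEquiv.ofBijective φ ⟨hinj, hsurj⟩, hφx, hφy⟩

/-- A homomorphism composed with a surjection onto a branch. -/
theorem exists_factor (α : A →ₐ[k] k⟦X⟧) (hα : Function.Surjective α) :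
    ∃ (e : k) (w : k⟦X⟧) (hw : constantCoeff w = 0) (he : e * e = 1),
      (e = 1 ∨ e = -1) ∧ coeff 1 w ≠ 0 ∧ α = (sb w hw).comp (br hr e he) := by
  let w := α (ArSing.x k r)
  have hw : constantCoeff w = 0 := constantCoeff_hom_x r α
  have hsq : α (ArSing.y k r) ^ 2 = (w ^ q) ^ 2 := by
    rw [← map_pow, y_sq, map_pow, hr, ← pow_mul, mul_comm]
  obtain ⟨e, he, hy⟩ : ∃ e : k, (e = 1 ∨ e = -1) ∧ α (ArSing.y k r) = C e * w ^ q := by
    rcases sq_eq_sq_iff_eq_or_eq_neg.1 hsq with h | h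
    · exact ⟨1, Or.inl rfl, by rw [h, map_one, one_mul]⟩
    · exact ⟨-1, Or.inr rfl, by rw [h, map_neg, map_one, neg_one_mul]⟩
  have hee : e * e = 1 := by rcases he with rfl | rfl <;> norm_num
  have h : α = (sb w hw).comp (br hr e hee) := algHom_ext r
    (by rw [AlgHom.comp_apply, br_x, sb_X])
    (by rw [AlgHom.comp_apply, br_y, map_mul, map_pow, sb_X, hy]
        exact congrArg (· * w ^ q) ((sb w hw).commutes e).symm)
  refine ⟨e, w, hw, hee, he, coeff_one_ne_zero_of_surjective w hw fun f => ?_, h⟩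
  obtain ⟨a, ha⟩ := hα f
  exact ⟨br hr e hee a, by rw [← ha, h]; rfl⟩

theorem br_surjective (e : k) (he : e * e = 1) : Function.Surjective (br hr e he) :=
  fun f => ⟨ArSing.xMap k r f, br_xMap hr e he f⟩

theorem coeff_one_half (c : k) (a b : k⟦X⟧) :
    coeff 1 (C c * (a + b)) = c * (coeff 1 a + coeff 1 b) := by
  rw [coeff_C_mul, map_add]

theorem smul_eq (c : k) (f : k⟦X⟧) : c • f = C c * f := by
  rw [Algebra.smul_def]; rfl

theorem half_coeff (h2 : (2 : k) ≠ 0) (c : k) (hc : c ≠ -1) : (2⁻¹ : k) * (1 + c) ≠ 0 := by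
  refine mul_ne_zero (inv_ne_zero h2) fun h => hc ?_
  linear_combination h

/-- The average of `x` and `σ x`. -/
theorem avg (h2 : (2 : k) ≠ 0) (σ : A ≃ₐ[k] A) (hσ : ∀ a, σ (σ a) = a) (s : k) (hs : s * s = 1) :
    σ ((2⁻¹ : k) • (ArSing.x k r + s • σ (ArSing.x k r))) =
      s • ((2⁻¹ : k) • (ArSing.x k r + s • σ (ArSing.x k r))) := by
  rw [map_smul, map_add, map_smul, hσ, smul_comm s]
  congr 1
  rw [smul_add, smul_smul, hs, one_smul, add_comm]

include hr in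
/-- An involution either exchanges the branches, or preserves them. -/
theorem involution_nf (h2 : (2 : k) ≠ 0) (σ : A ≃ₐ[k] A) (hσ : ∀ a, σ (σ a) = a)
    (hne : σ ≠ AlgEquiv.refl) :
    ∃ φ : A ≃ₐ[k] A,
      (∃ s : k, (s = 1 ∨ s = -1) ∧ σ (φ (ArSing.x k r)) = s • φ (ArSing.x k r) ∧
          σ (φ (ArSing.y k r)) = (-(s ^ q)) • φ (ArSing.y k r)) ∨
      (σ (φ (ArSing.x k r)) = (-1 : k) • φ (ArSing.x k r) ∧
          σ (φ (ArSing.y k r)) = ((-1 : k) ^ q) • φ (ArSing.y k r)) ∨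
      (q = 1 ∧ σ (φ (ArSing.x k r)) = φ (ArSing.y k r) ∧
          σ (φ (ArSing.y k r)) = φ (ArSing.x k r)) := by
  have hq := q_ne hr
  obtain ⟨e₁, w₁, hw₁, hee₁, he₁, hc₁, h₁⟩ := exists_factor hr ((pp hr).comp σ.toAlgHom)
    (fun f => ⟨σ.symm (ArSing.xMap k r f), by
      show pp hr (σ (σ.symm _)) = f
      rw [AlgEquiv.apply_symm_apply, br_xMap]⟩)
  obtain ⟨e₂, w₂, hw₂, hee₂, he₂, hc₂, h₂⟩ := exists_factor hr ((pm hr).comp σ.toAlgHom)
    (fun f => ⟨σ.symm (ArSing.xMap k r f), by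
      show pm hr (σ (σ.symm _)) = f
      rw [AlgEquiv.apply_symm_apply, br_xMap]⟩)
  have k₁ : ∀ a, pp hr (σ a) = sb w₁ hw₁ (br hr e₁ hee₁ a) := fun a => AlgHom.congr_fun h₁ a
  have k₂ : ∀ a, pm hr (σ a) = sb w₂ hw₂ (br hr e₂ hee₂ a) := fun a => AlgHom.congr_fun h₂ a
  have hpx : pp hr (σ (ArSing.x k r)) = w₁ := by rw [k₁, br_x, sb_X]
  have hmx : pm hr (σ (ArSing.x k r)) = w₂ := by rw [k₂, br_x, sb_X]
  have hw12 : (X : k⟦X⟧) ^ q ∣ w₁ - w₂ := by rw [← hpx, ← hmx]; exact sub_dvd hr _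
  have hne12 : e₁ ≠ e₂ := by
    intro h
    obtain ⟨c, hc, hc'⟩ : ∃ c : A, br hr e₁ hee₁ c = 0 ∧ c ≠ 0 := by
      refine ⟨ArSing.y k r - e₁ • ArSing.x k r ^ q, ?_, fun h0 => ?_⟩
      · rw [map_sub, br_y, map_smul, map_pow, br_x, smul_eq, sub_self]
      · have a₁ := congrArg (pp hr) h0
        have a₂ := congrArg (pm hr) h0
        rw [map_sub, br_y, map_smul, map_pow, br_x, map_zero, smul_eq, sub_eq_zero] at a₁ a₂
        have := mul_right_cancel₀ (pow_ne_zero q X_ne_zero) (a₁.trans a₂.symm)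
        exact h2 (by linear_combination C_injective this)
    refine hc' (σ.injective (br_injective hr h2 ?_ ?_))
    · rw [k₁, hc, map_zero, map_zero, map_zero]
    · subst h
      rw [k₂, hc, map_zero, map_zero, map_zero]
  obtain ⟨rfl, rfl⟩ | ⟨rfl, rfl⟩ : (e₁ = -1 ∧ e₂ = 1) ∨ (e₁ = 1 ∧ e₂ = -1) := by
    rcases he₁ with rfl | rfl <;> rcases he₂ with rfl | rfl <;> simp_all
  · -- exchanged branches
    have i₁ : sb w₁ hw₁ w₂ = X := by
      have := k₁ (σ (ArSing.x k r))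
      rwa [hσ, show br hr (-1) hee₁ (σ (ArSing.x k r)) = w₂ from hmx, br_x, eq_comm] at this
    have hcc : coeff 1 w₂ * coeff 1 w₁ = 1 := by
      rw [← coeff_one_sb w₁ hw₁ w₂ hw₂, i₁, coeff_one_X]
    obtain ⟨s, hs, hs₁, hs₂⟩ : ∃ s : k, (s = 1 ∨ s = -1) ∧ s * coeff 1 w₁ ≠ -1 ∧
        s * coeff 1 w₂ ≠ -1 := by
      by_cases h : coeff 1 w₁ = -1
      · refine ⟨-1, Or.inr rfl, ?_, ?_⟩
        · rw [h]; intro h'; exact h2 (by linear_combination h')
        · rw [show coeff 1 w₂ = -1 by linear_combination (-1 : k) * hcc + coeff 1 w₂ * h]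
          intro h'; exact h2 (by linear_combination h')
      · refine ⟨1, Or.inl rfl, by rwa [one_mul], ?_⟩
        intro h'
        exact h (by linear_combination (-1 : k) * hcc + coeff 1 w₁ * h')
    have hss : s * s = 1 := by rcases hs with rfl | rfl <;> norm_num
    let P : A := (2⁻¹ : k) • (ArSing.x k r + s • σ (ArSing.x k r))
    have hσP : σ P = s • P := avg h2 σ hσ s hss
    have hP₁ : pp hr P = C (2⁻¹ : k) * (X + C s * w₁) := by
      simp only [P, map_smul, map_add, hpx, br_x, smul_eq]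
    have hP₂ : pm hr P = C (2⁻¹ : k) * (X + C s * w₂) := by
      simp only [P, map_smul, map_add, hmx, br_x, smul_eq]
    have z₁ : constantCoeff (pp hr P) = 0 := by simp [hP₁, hw₁]
    have z₂ : constantCoeff (pm hr P) = 0 := by simp [hP₂, hw₂]
    obtain ⟨Q, hQ₁, hQ₂⟩ := exists_pair hr h2 (a := C 1 * pp hr P ^ q) (b := C (-1) * pm hr P ^ q)
      (dvd_sub (dvd_mul_of_dvd_right (pow_dvd_pow_of_dvd (X_dvd_iff.2 z₁) _) _)
        (dvd_mul_of_dvd_right (pow_dvd_pow_of_dvd (X_dvd_iff.2 z₂) _) _))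
    obtain ⟨φ, hx, hy⟩ := exists_aut hr h2 1 (Or.inl rfl) P Q _ _ z₁ z₂
      (by rw [hP₁, coeff_one_half, coeff_one_X, coeff_C_mul]; exact half_coeff h2 _ hs₁)
      (by rw [hP₂, coeff_one_half, coeff_one_X, coeff_C_mul]; exact half_coeff h2 _ hs₂)
      rfl rfl hQ₁ hQ₂
    have m₁ : sb w₁ hw₁ (pm hr P) = C s * pp hr P := by
      rw [show sb w₁ hw₁ (pm hr P) = pp hr (σ P) from (k₁ P).symm, hσP, map_smul, smul_eq]
    have m₂ : sb w₂ hw₂ (pp hr P) = C s * pm hr P := by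
      rw [show sb w₂ hw₂ (pp hr P) = pm hr (σ P) from (k₂ P).symm, hσP, map_smul, smul_eq]
    refine ⟨φ, Or.inl ⟨s, hs, by rw [hx, hσP], ?_⟩⟩
    rw [hy]
    refine br_injective hr h2 ?_ ?_
    · rw [k₁, show br hr (-1) hee₁ Q = C (-1) * pm hr P ^ q from hQ₂, map_mul, map_pow, m₁,
        map_smul (pp hr) (-(s ^ q)) Q, hQ₁, smul_eq, show sb w₁ hw₁ (C (-1)) = C (-1) from (sb w₁ hw₁).commutes _,
        mul_pow, map_neg, map_neg, map_pow, map_one]
      ring
    · rw [k₂, show br hr 1 hee₂ Q = C 1 * pp hr P ^ q from hQ₁, map_mul, map_pow, m₂,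
        map_smul (pm hr) (-(s ^ q)) Q, hQ₂, smul_eq, show sb w₂ hw₂ (C 1) = C 1 from (sb w₂ hw₂).commutes _,
        mul_pow, map_neg, map_neg, map_pow, map_one]
      ring
  · -- preserved branches
    have i₁ : sb w₁ hw₁ w₁ = X := by
      have := k₁ (σ (ArSing.x k r))
      rwa [hσ, show br hr 1 hee₁ (σ (ArSing.x k r)) = w₁ from hpx, br_x, eq_comm] at this
    have i₂ : sb w₂ hw₂ w₂ = X := by
      have := k₂ (σ (ArSing.x k r))
      rwa [hσ, show br hr (-1) hee₂ (σ (ArSing.x k r)) = w₂ from hmx, br_x, eq_comm] at this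
    have neg_case : ∀ (w : k⟦X⟧) (hw : constantCoeff w = 0), sb w hw w = X → coeff 1 w = -1 →
        ∃ p : k⟦X⟧, constantCoeff p = 0 ∧ coeff 1 p ≠ 0 ∧ sb w hw p = -p ∧
          p = C (2⁻¹ : k) * (X + C (-1) * w) := by
      intro w hw hi hc
      refine ⟨_, by simp [hw], ?_, ?_, rfl⟩
      · rw [coeff_one_half, coeff_one_X, coeff_C_mul, hc]
        refine half_coeff h2 _ fun h => h2 ?_
        linear_combination h
      · rw [map_mul, map_add, map_mul, sb_X, hi,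
          show sb w hw (C (2⁻¹ : k)) = C (2⁻¹ : k) from (sb w hw).commutes _,
          show sb w hw (C (-1 : k)) = C (-1 : k) from (sb w hw).commutes _, map_neg, map_one]
        ring
    rcases involution_coeff_one w₁ hw₁ i₁ with a₁ | a₁ <;>
      rcases involution_coeff_one w₂ hw₂ i₂ with a₂ | a₂
    · -- the identity
      refine absurd (AlgEquiv.ext fun a => br_injective hr h2 ?_ ?_) hne
      · rw [k₁, eq_id_of_map_X (sb w₁ hw₁) (by rw [sb_X, involution_eq_X w₁ hw₁ h2 i₁ a₁])]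
        rfl
      · rw [k₂, eq_id_of_map_X (sb w₂ hw₂) (by rw [sb_X, involution_eq_X w₂ hw₂ h2 i₂ a₂])]
        rfl
    · have hq1 : q = 1 := by
        by_contra h
        have := X_pow_dvd_iff.1 hw12 1 (by omega)
        rw [map_sub, a₁, a₂] at this
        exact h2 (by linear_combination this)
      have e₁ : w₁ = X := involution_eq_X w₁ hw₁ h2 i₁ a₁
      obtain ⟨p, p0, p1, pσ, -⟩ := neg_case w₂ hw₂ i₂ a₂
      obtain ⟨P, hP₁, hP₂⟩ := exists_pair hr h2 (a := X) (b := p)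
        (by rw [hq1, pow_one, X_dvd_iff]; simp [p0])
      obtain ⟨Q, hQ₁, hQ₂⟩ := exists_pair hr h2 (a := X) (b := -p)
        (by rw [hq1, pow_one, X_dvd_iff]; simp [p0])
      obtain ⟨φ, hx, hy⟩ := exists_aut hr h2 1 (Or.inl rfl) P Q X p constantCoeff_X p0
        (by rw [coeff_one_X]; exact one_ne_zero) p1 hP₁ hP₂
        (by rw [hQ₁, hq1, map_one, one_mul, pow_one])
        (by rw [hQ₂, hq1, map_neg, map_one, neg_one_mul, pow_one])
      have hPQ : σ P = Q := by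
        refine br_injective hr h2 ?_ ?_
        · rw [k₁, show br hr 1 hee₁ P = X from hP₁, sb_X, e₁, hQ₁]
        · rw [k₂, show br hr (-1) hee₂ P = p from hP₂, pσ, hQ₂]
      exact ⟨φ, Or.inr (Or.inr ⟨hq1, by rw [hx, hy, hPQ], by rw [hx, hy, ← hPQ, hσ]⟩)⟩
    · have hq1 : q = 1 := by
        by_contra h
        have := X_pow_dvd_iff.1 hw12 1 (by omega)
        rw [map_sub, a₁, a₂] at this
        exact h2 (by linear_combination (-1 : k) * this)
      have e₂ : w₂ = X := involution_eq_X w₂ hw₂ h2 i₂ a₂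
      obtain ⟨p, p0, p1, pσ, -⟩ := neg_case w₁ hw₁ i₁ a₁
      obtain ⟨P, hP₁, hP₂⟩ := exists_pair hr h2 (a := p) (b := X)
        (by rw [hq1, pow_one, X_dvd_iff]; simp [p0])
      obtain ⟨Q, hQ₁, hQ₂⟩ := exists_pair hr h2 (a := -p) (b := X)
        (by rw [hq1, pow_one, X_dvd_iff]; simp [p0])
      obtain ⟨φ, hx, hy⟩ := exists_aut hr h2 (-1) (Or.inr rfl) P Q p X p0 constantCoeff_X
        p1 (by rw [coeff_one_X]; exact one_ne_zero) hP₁ hP₂
        (by rw [hQ₁, hq1, map_neg, map_one, neg_one_mul, pow_one])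
        (by rw [hQ₂, hq1, neg_neg, map_one, one_mul, pow_one])
      have hPQ : σ P = Q := by
        refine br_injective hr h2 ?_ ?_
        · rw [k₁, show br hr 1 hee₁ P = p from hP₁, pσ, hQ₁]
        · rw [k₂, show br hr (-1) hee₂ P = X from hP₂, sb_X, e₂, hQ₂]
      exact ⟨φ, Or.inr (Or.inr ⟨hq1, by rw [hx, hy, hPQ], by rw [hx, hy, ← hPQ, hσ]⟩)⟩
    · obtain ⟨p, p0, p1, pσ, hp⟩ := neg_case w₁ hw₁ i₁ a₁
      obtain ⟨p', p0', p1', pσ', hp'⟩ := neg_case w₂ hw₂ i₂ a₂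
      let P : A := (2⁻¹ : k) • (ArSing.x k r + (-1 : k) • σ (ArSing.x k r))
      have hσP : σ P = (-1 : k) • P := avg h2 σ hσ _ (by norm_num)
      have hP₁ : pp hr P = p := by
        rw [hp]; simp only [P, map_smul, map_add, hpx, br_x, smul_eq]
      have hP₂ : pm hr P = p' := by
        rw [hp']; simp only [P, map_smul, map_add, hmx, br_x, smul_eq]
      obtain ⟨Q, hQ₁, hQ₂⟩ := exists_pair hr h2 (a := C 1 * p ^ q) (b := C (-1) * p' ^ q)
        (dvd_sub (dvd_mul_of_dvd_right (pow_dvd_pow_of_dvd (X_dvd_iff.2 p0) _) _)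
          (dvd_mul_of_dvd_right (pow_dvd_pow_of_dvd (X_dvd_iff.2 p0') _) _))
      obtain ⟨φ, hx, hy⟩ := exists_aut hr h2 1 (Or.inl rfl) P Q p p' p0 p0' p1 p1' hP₁ hP₂ hQ₁ hQ₂
      refine ⟨φ, Or.inr (Or.inl ⟨by rw [hx, hσP], ?_⟩)⟩
      rw [hy]
      refine br_injective hr h2 ?_ ?_
      · rw [k₁, show br hr 1 hee₁ Q = C 1 * p ^ q from hQ₁, map_mul, map_pow, pσ, map_smul, hQ₁,
          smul_eq, show sb w₁ hw₁ (C 1) = C 1 from (sb w₁ hw₁).commutes _, map_pow (C : k →+* k⟦X⟧),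
          map_neg, map_one, neg_pow p]
        ring
      · rw [k₂, show br hr (-1) hee₂ Q = C (-1) * p' ^ q from hQ₂, map_mul, map_pow, pσ', map_smul,
          hQ₂, smul_eq, show sb w₂ hw₂ (C (-1)) = C (-1) from (sb w₂ hw₂).commutes _,
          map_pow (C : k →+* k⟦X⟧), map_neg, map_one, neg_pow p']
        ring

end Groth.Agent.ArNF
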