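import Groth.Agent.ArNF.Ring

/-! The normalisation of `k⟦x, y⟧/(y² - x^(2q+1))` and its involutions. -/

set_option autoImplicit false
set_option linter.all false
universe u

noncomputable section

namespace Groth.Agent.ArNF

open PowerSeries

variable {k : Type u} [Field k] (q : ℕ)

local notation "A" => ArSing.ring k (2 * q)

/-- The normalisation `x ↦ t²`, `y ↦ t^(2q+1)`. -/
def nu : A →ₐ[k] k⟦X⟧ :=
  toPS (2 * q) (X ^ 2) (X ^ (2 * q + 1)) (by simp) (by simp) (by rw [← pow_mul, ← pow_mul, mul_comm])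

@[simp] theorem nu_x : nu q (ArSing.x k (2 * q)) = X ^ 2 := toPS_x ..
@[simp] theorem nu_y : nu q (ArSing.y k (2 * q)) = X ^ (2 * q + 1) := toPS_y ..

theorem nu_xMap (f : k⟦X⟧) : nu q (ArSing.xMap k (2 * q) f) = subst (X ^ 2) f := by
  have h : (nu q).comp (ArSing.xMap k (2 * q)) = sb (X ^ 2) (by simp) :=
    algHom_ext_X (by rw [AlgHom.comp_apply, xMap_X, nu_x, sb_X])
  rw [← sb_apply (X ^ 2 : k⟦X⟧) (by simp), ← h]; rfl

theorem nu_decomp (f g : k⟦X⟧) :
    nu q (ArSing.xMap k (2 * q) f + ArSing.xMap k (2 * q) g * ArSing.y k (2 * q)) =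
      subst (X ^ 2) f + subst (X ^ 2) g * X ^ (2 * q + 1) := by
  rw [map_add, map_mul, nu_xMap, nu_xMap, nu_y]

theorem coeff_nu (f g : k⟦X⟧) (j : ℕ) :
    coeff j (subst (X ^ 2 : k⟦X⟧) f + subst (X ^ 2 : k⟦X⟧) g * X ^ (2 * q + 1)) =
      if 2 ∣ j then coeff (j / 2) f
      else if 2 * q + 1 ≤ j then coeff ((j - (2 * q + 1)) / 2) g else 0 := by
  rw [map_add, coeff_mul_X_pow', coeff_subst_X_pow two_ne_zero]
  simp only [coeff_subst_X_pow two_ne_zero, Algebra.algebraMap_self, RingHom.id_apply]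
  split_ifs <;> first | (exfalso; omega) | simp

theorem nu_injective : Function.Injective (nu (k := k) q) := by
  intro a b h
  obtain ⟨f, g, rfl⟩ := exists_decomp (2 * q) a
  obtain ⟨f', g', rfl⟩ := exists_decomp (2 * q) b
  rw [nu_decomp, nu_decomp] at h
  have hf : f = f' := PowerSeries.ext fun i => by
    have := congrArg (coeff (2 * i)) h
    rwa [coeff_nu, coeff_nu, if_pos (dvd_mul_right 2 i), if_pos (dvd_mul_right 2 i),
      Nat.mul_div_cancel_left i two_pos] at this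
  have hg : g = g' := PowerSeries.ext fun i => by
    have := congrArg (coeff (2 * q + 1 + 2 * i)) h
    rwa [coeff_nu, coeff_nu, if_neg (show ¬ 2 ∣ 2 * q + 1 + 2 * i by omega),
      if_neg (show ¬ 2 ∣ 2 * q + 1 + 2 * i by omega), if_pos (show 2 * q + 1 ≤ 2 * q + 1 + 2 * i by omega),
      if_pos (show 2 * q + 1 ≤ 2 * q + 1 + 2 * i by omega), Nat.add_sub_cancel_left, Nat.mul_div_cancel_left i two_pos] at this
  rw [hf, hg]

/-- The image of the normalisation. -/
theorem mem_range_nu (c : k⟦X⟧) :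
    (∃ a : A, nu q a = c) ↔ ∀ j, ¬ 2 ∣ j → j < 2 * q + 1 → coeff j c = 0 := by
  constructor
  · rintro ⟨a, rfl⟩ j hj hjn
    obtain ⟨f, g, rfl⟩ := exists_decomp (2 * q) a
    rw [nu_decomp, coeff_nu, if_neg hj, if_neg (by omega)]
  · intro h
    refine ⟨ArSing.xMap k (2 * q) (mk fun i => coeff (2 * i) c) +
      ArSing.xMap k (2 * q) (mk fun i => coeff (2 * q + 1 + 2 * i) c) * ArSing.y k (2 * q),
      PowerSeries.ext fun j => ?_⟩
    rw [nu_decomp, coeff_nu, coeff_mk, coeff_mk]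
    split_ifs with h₁ h₂
    · congr 2; omega
    · congr 2; omega
    · exact (h j h₁ (by omega)).symm

theorem mem_range_of_dvd {c : k⟦X⟧} (h : (X : k⟦X⟧) ^ (2 * q) ∣ c) : ∃ a : A, nu q a = c :=
  (mem_range_nu q c).2 fun j hj hjn => X_pow_dvd_iff.1 h j (by omega)

/-- `σ` extends to the normalisation. -/
theorem exists_ext (σ : A ≃ₐ[k] A) :
    ∃ (w : k⟦X⟧) (hw : constantCoeff w = 0), coeff 1 w ≠ 0 ∧
      ∀ a, nu q (σ a) = sb w hw (nu q a) := by
  let α : A →ₐ[k] k⟦X⟧ := (nu q).comp σ.toAlgHom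
  have hαinj : Function.Injective α := (nu_injective q).comp σ.injective
  let w₀ := α (ArSing.x k (2 * q))
  let v₀ := α (ArSing.y k (2 * q))
  have hw₀ : constantCoeff w₀ = 0 := constantCoeff_hom_x _ α
  have hrel : v₀ ^ 2 = w₀ ^ (2 * q + 1) := by rw [← map_pow, y_sq, map_pow]
  have hw₀ne : w₀ ≠ 0 := by
    intro h
    have := hαinj (h.trans (map_zero α).symm)
    have := congrArg (nu q) this
    rw [nu_x, map_zero] at this
    exact pow_ne_zero 2 X_ne_zero this
  have hv₀ne : v₀ ≠ 0 := by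
    intro h
    rw [h, zero_pow two_ne_zero] at hrel
    exact pow_ne_zero _ hw₀ne hrel.symm
  obtain ⟨a, u, hu, hwu⟩ : ∃ a u, constantCoeff u ≠ 0 ∧ w₀ = X ^ a * u :=
    ⟨_, _, fun h => hw₀ne (constantCoeff_divXPowOrder_eq_zero_iff.1 h),
      X_pow_order_mul_divXPowOrder.symm⟩
  obtain ⟨b, v, hv, hvv⟩ : ∃ b v, constantCoeff v ≠ 0 ∧ v₀ = X ^ b * v :=
    ⟨_, _, fun h => hv₀ne (constantCoeff_divXPowOrder_eq_zero_iff.1 h),
      X_pow_order_mul_divXPowOrder.symm⟩
  have ha0 : a ≠ 0 := by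
    rintro rfl
    rw [hwu, pow_zero, one_mul] at hw₀
    exact hu hw₀
  have hab : b * 2 = a * (2 * q + 1) := by
    have key : (X : k⟦X⟧) ^ (b * 2) * v ^ 2 = X ^ (a * (2 * q + 1)) * u ^ (2 * q + 1) := by
      rw [pow_mul, pow_mul, ← mul_pow, ← mul_pow, ← hvv, ← hwu, hrel]
    rcases lt_trichotomy (b * 2) (a * (2 * q + 1)) with h | h | h
    · have := congrArg (coeff (b * 2)) key
      rw [coeff_X_pow_mul', coeff_X_pow_mul', if_pos le_rfl, if_neg (by omega), Nat.sub_self,
        coeff_zero_eq_constantCoeff, map_pow] at this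
      exact absurd this (pow_ne_zero _ hv)
    · exact h
    · have := congrArg (coeff (a * (2 * q + 1))) key
      rw [coeff_X_pow_mul', coeff_X_pow_mul', if_pos le_rfl, if_neg (by omega), Nat.sub_self,
        coeff_zero_eq_constantCoeff, map_pow] at this
      exact absurd this.symm (pow_ne_zero _ hu)
  obtain ⟨a', ha'⟩ : 2 ∣ a := by
    refine (Nat.Coprime.dvd_of_dvd_mul_right ?_ ⟨b, by rw [← hab, mul_comm]⟩)
    rw [Nat.coprime_two_left]
    exact ⟨q, rfl⟩
  have hb : b = a' * (2 * q + 1) := by rw [ha', mul_assoc, mul_comm b 2] at hab; omega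
  obtain rfl : a' = 1 := by
    by_contra hne
    have ha2 : 2 ≤ a' := by omega
    obtain ⟨d, hd0, hd3, hd⟩ : ∃ d, d ≠ 0 ∧ d < 3 ∧ (∃ z : A, coeff d (nu q z) ≠ 0) ∧
        (d < a' * (2 * q + 1)) := by
      by_cases hq : q = 0
      · refine ⟨1, one_ne_zero, by omega, ⟨ArSing.y k (2 * q), ?_⟩, by subst hq; omega⟩
        rw [nu_y, coeff_X_pow, if_pos (by omega)]
        exact one_ne_zero
      · refine ⟨2, by omega, by omega, ⟨ArSing.x k (2 * q), ?_⟩, ?_⟩
        · rw [nu_x, coeff_X_pow, if_pos rfl]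
          exact one_ne_zero
        · calc 2 < 2 * 3 := by omega
            _ ≤ a' * (2 * q + 1) := Nat.mul_le_mul ha2 (by omega)
    obtain ⟨⟨z, hz⟩, hdb⟩ := hd
    obtain ⟨z', rfl⟩ := σ.surjective z
    refine hz ?_
    show coeff d (α z') = 0
    obtain ⟨f, g, rfl⟩ := exists_decomp (2 * q) z'
    have e : α.comp (ArSing.xMap k (2 * q)) = sb w₀ hw₀ :=
      algHom_ext_X (by rw [AlgHom.comp_apply, xMap_X, sb_X])
    rw [map_add α, map_mul α, show α (ArSing.xMap k (2 * q) f) = sb w₀ hw₀ f from AlgHom.congr_fun e f,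
      map_add, show α (ArSing.y k (2 * q)) = _ from hvv, hb]
    have hw₀d : ∀ z : k⟦X⟧, coeff d (w₀ * z) = 0 := fun z => by
      rw [hwu, mul_assoc, coeff_X_pow_mul', if_neg (by omega)]
    have h₁ : coeff d (sb w₀ hw₀ f) = 0 := by
      obtain ⟨f', hf'⟩ : (X : k⟦X⟧) ∣ f - C (constantCoeff f) := X_dvd_iff.2 (by simp)
      rw [show f = C (constantCoeff f) + X * f' by rw [← hf']; ring, map_add,
        show sb w₀ hw₀ (C (constantCoeff f)) = C (constantCoeff f) from (sb w₀ hw₀).commutes _,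
        map_mul, sb_X, map_add, coeff_C, if_neg hd0, hw₀d, add_zero]
    rw [h₁, mul_comm, mul_assoc, coeff_X_pow_mul', if_neg (by omega), add_zero]
  rw [one_mul] at hb
  rw [mul_one] at ha'
  subst ha' hb
  let u' : k⟦X⟧ := u⁻¹
  have huu : u * u' = 1 := PowerSeries.mul_inv_cancel u hu
  let w : k⟦X⟧ := X * (v * u' ^ q)
  have hw : constantCoeff w = 0 := by simp [w]
  have hwq : v₀ = w * w₀ ^ q := by
    rw [hvv, hwu]
    calc X ^ (2 * q + 1) * v = X ^ (2 * q + 1) * v * (u * u') ^ q := by rw [huu, one_pow, mul_one]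
      _ = _ := by simp only [w, mul_pow, ← pow_mul]; ring
  have hw2 : w ^ 2 = w₀ := by
    refine mul_right_cancel₀ (pow_ne_zero (2 * q) hw₀ne) ?_
    calc w ^ 2 * w₀ ^ (2 * q) = (w * w₀ ^ q) ^ 2 := by ring
      _ = w₀ ^ (2 * q + 1) := by rw [← hwq, hrel]
      _ = _ := pow_succ' w₀ _
  refine ⟨w, hw, ?_, fun a => AlgHom.congr_fun (algHom_ext _ (f := α)
    (g := (sb w hw).comp (nu q)) ?_ ?_) a⟩
  · simp only [w]
    rw [← pow_one (X : k⟦X⟧), coeff_X_pow_mul', if_pos le_rfl, Nat.sub_self,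
      coeff_zero_eq_constantCoeff, map_mul, map_pow]
    refine mul_ne_zero hv (pow_ne_zero _ ?_)
    rw [PowerSeries.constantCoeff_inv]
    exact inv_ne_zero hu
  · show w₀ = sb w hw (nu q (ArSing.x k (2 * q)))
    rw [nu_x, map_pow, sb_X, hw2]
  · show v₀ = sb w hw (nu q (ArSing.y k (2 * q)))
    rw [nu_y, map_pow, sb_X, pow_succ, pow_mul, hw2, mul_comm, ← hwq]

theorem coeff_pow_self_of (s : k⟦X⟧) (hs : constantCoeff s = 0) (j : ℕ) :
    coeff j (s ^ j) = coeff 1 s ^ j := by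
  have := coeff_sb_of_dvd s hs (f := X ^ j) (j := j) dvd_rfl
  rwa [map_pow, sb_X, coeff_X_pow, if_pos rfl, one_mul] at this

theorem involution_nf_even (h2 : (2 : k) ≠ 0) (σ : A ≃ₐ[k] A) (hσ : ∀ a, σ (σ a) = a)
    (hne : σ ≠ AlgEquiv.refl) :
    ∃ φ : A ≃ₐ[k] A, σ (φ (ArSing.x k (2 * q))) = φ (ArSing.x k (2 * q)) ∧
      σ (φ (ArSing.y k (2 * q))) = -φ (ArSing.y k (2 * q)) := by
  obtain ⟨w, hw, hc, hext⟩ := exists_ext q σ
  have hτ : sb w hw w = X := by
    let z := sb w hw w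
    have h₂ : z ^ 2 = X ^ 2 := by
      have := hext (σ (ArSing.x k (2 * q)))
      rw [hσ, hext, nu_x] at this
      simp only [map_pow, sb_X] at this
      exact this.symm
    have hn : z ^ (2 * q + 1) = X ^ (2 * q + 1) := by
      have := hext (σ (ArSing.y k (2 * q)))
      rw [hσ, hext, nu_y] at this
      simp only [map_pow, sb_X] at this
      exact this.symm
    rw [pow_succ, pow_succ, pow_mul, pow_mul, h₂] at hn
    exact mul_left_cancel₀ (pow_ne_zero _ (pow_ne_zero _ X_ne_zero)) hn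
  have hc1 : coeff 1 w = -1 := by
    refine (involution_coeff_one w hw hτ).resolve_left fun h => hne (AlgEquiv.ext fun a => ?_)
    refine nu_injective q ?_
    rw [hext, eq_id_of_map_X (sb w hw) (by rw [sb_X, involution_eq_X w hw h2 hτ h])]
    rfl
  let s : k⟦X⟧ := C (2⁻¹ : k) * (X - w)
  have hs0 : constantCoeff s = 0 := by simp [s, hw]
  have hs1 : coeff 1 s = 1 := by
    simp only [s, coeff_C_mul, map_sub, coeff_one_X, hc1, sub_neg_eq_add, one_add_one_eq_two]
    exact inv_mul_cancel₀ h2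
  have hs1' : coeff 1 s ≠ 0 := by rw [hs1]; exact one_ne_zero
  have hsτ : sb w hw s = -s := by
    simp only [s, map_mul, map_sub, sb_X, hτ,
      show sb w hw (C (2⁻¹ : k)) = C (2⁻¹ : k) from (sb w hw).commutes _]
    ring
  let P : A := (2⁻¹ : k) • (ArSing.x k (2 * q) + σ (ArSing.x k (2 * q)))
  have hσP : σ P = P := by rw [map_smul, map_add, hσ, add_comm]
  let p := nu q P
  have hpτ : sb w hw p = p := by rw [← hext, hσP]
  obtain ⟨e, he⟩ := (sb_bijective s hs0 hs1').2 p
  have heven : sb (-X) (by simp) e = e := by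
    refine (sb_bijective s hs0 hs1').1 ?_
    have h₁ : (sb s hs0).comp (sb (-X : k⟦X⟧) (by simp)) = (sb w hw).comp (sb s hs0) :=
      algHom_ext_X (by simp [hsτ])
    rw [← AlgHom.comp_apply, h₁, AlgHom.comp_apply, he, hpτ]
  have hodd : ∀ j, ¬ 2 ∣ j → coeff j e = 0 := by
    intro j hj
    have := congrArg (coeff j) heven
    have h' : sb (-X : k⟦X⟧) (by simp) e = rescale (-1) e := by
      rw [sb_apply, rescale_eq_subst, neg_one_smul]
    rw [h', coeff_rescale, (Nat.not_even_iff_odd.1 (mt even_iff_two_dvd.1 hj)).neg_one_pow] at this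
    exact (mul_eq_zero.1 (show (2 : k) * coeff j e = 0 by linear_combination -this)).resolve_left h2
  let G : k⟦X⟧ := mk fun i => coeff (2 * i) e
  have heG : e = sb (X ^ 2) (by simp) G := by
    refine PowerSeries.ext fun j => ?_
    rw [sb_apply, coeff_subst_X_pow two_ne_zero, coeff_mk, Algebra.algebraMap_self, RingHom.id_apply]
    split_ifs with h
    · rw [Nat.mul_div_cancel' h]
    · exact hodd j h
  have hp0 : constantCoeff p = 0 := by
    simp only [p, P, map_smul, map_add, hext, nu_x, map_pow, sb_X]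
    simp [hw]
  have hG0 : constantCoeff G = 0 := by
    rw [← coeff_zero_eq_constantCoeff, coeff_mk, mul_zero, coeff_zero_eq_constantCoeff,
      ← constantCoeff_sb s hs0 e, he, hp0]
  have hG1 : coeff 1 G ≠ 0 := by
    rw [coeff_mk, mul_one]
    intro h0
    have hd : (X : k⟦X⟧) ^ 3 ∣ e := by
      refine X_pow_dvd_iff.2 fun m hm => ?_
      interval_cases m
      · rw [coeff_zero_eq_constantCoeff, ← constantCoeff_sb s hs0 e, he, hp0]
      · exact hodd 1 (by omega)
      · exact h0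
    have := X_pow_dvd_iff.1 (dvd_sb s hs0 hd) 2 (by omega)
    rw [he] at this
    simp only [p, P, map_smul, map_add, hext, nu_x, map_pow, sb_X, coeff_X_pow,
      coeff_pow_self_of w hw, hc1, smul_eq_mul] at this
    rw [if_true, neg_one_sq, one_add_one_eq_two, inv_mul_cancel₀ h2] at this
    exact one_ne_zero this
  obtain ⟨G', hG'⟩ := (sb_bijective G hG0 hG1).2 X
  have hG'0 : constantCoeff G' = 0 := by
    rw [← constantCoeff_sb G hG0 G', hG', constantCoeff_X]
  obtain ⟨F, hF, hF0⟩ := exists_lift (2 * q) (nu q) P hp0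
  let ψ : k⟦X⟧ →ₐ[k] A :=
    (Ideal.Quotient.mkₐ k _).comp (substAlgHom (HasSubst.of_constantCoeff_zero hF0))
  have hψ : ψ X = P := by
    simp only [ψ, AlgHom.comp_apply, substAlgHom_X]; exact hF
  have hνψ : (nu q).comp ψ = (sb s hs0).comp ((sb (X ^ 2) (by simp)).comp (sb G hG0)) :=
    algHom_ext_X (by
      simp only [AlgHom.comp_apply, hψ, sb_X]
      rw [← heG, he])
  have hP' : nu q (ψ G') = s ^ 2 := by
    rw [← AlgHom.comp_apply, hνψ]
    simp only [AlgHom.comp_apply, hG', sb_X, map_pow]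
  obtain ⟨Q, hQ⟩ := mem_range_of_dvd q (c := s ^ (2 * q + 1))
    ((pow_dvd_pow _ (Nat.le_succ _)).trans (pow_dvd_pow_of_dvd (X_dvd_iff.2 hs0) _))
  obtain ⟨φ, hx, hy⟩ := exists_endo (2 * q) (nu q) (ψ G') Q (by rw [hP', map_pow, hs0, zero_pow two_ne_zero])
    (by rw [hQ, map_pow, hs0, zero_pow (Nat.succ_ne_zero _)]) (nu_injective q (by
      rw [map_pow, map_pow, hQ, hP', ← pow_mul, ← pow_mul, mul_comm]))
  have hφ : (nu q).comp φ = (sb s hs0).comp (nu q) := algHom_ext _
    (by simp only [AlgHom.comp_apply, hx, hP', nu_x, map_pow, sb_X])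
    (by simp only [AlgHom.comp_apply, hy, hQ, nu_y, map_pow, sb_X])
  have hinj : Function.Injective φ := fun a b h => nu_injective q ((sb_bijective s hs0 hs1').1 (by
    rw [← AlgHom.comp_apply, ← hφ, AlgHom.comp_apply, h, ← AlgHom.comp_apply, hφ]; rfl))
  have hsurj : Function.Surjective φ := by
    intro a
    obtain ⟨f, hf⟩ := (sb_bijective s hs0 hs1').2 (nu q a)
    let f₀ : k⟦X⟧ := subst (X ^ 2 : k⟦X⟧) (mk fun i => coeff (2 * i) f)
    have hf₀ : ∀ j, coeff j f₀ = if 2 ∣ j then coeff j f else 0 := by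
      intro j
      simp only [f₀, coeff_subst_X_pow two_ne_zero, coeff_mk, Algebra.algebraMap_self,
        RingHom.id_apply]
      split_ifs with h
      · rw [Nat.mul_div_cancel' h]
      · rfl
    have hE : f₀ = nu q (ArSing.xMap k (2 * q) (mk fun i => coeff (2 * i) f)) :=
      (nu_xMap q _).symm
    have hO : ∀ j, j ≤ 2 * q + 1 → (X : k⟦X⟧) ^ j ∣ f - f₀ := by
      intro j
      induction j with
      | zero => simp
      | succ j ih =>
        intro hj
        have hjd := ih (by omega)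
        refine X_pow_dvd_iff.2 fun m hm => ?_
        rcases Nat.lt_or_ge m j with hmj | hmj
        · exact X_pow_dvd_iff.1 hjd m hmj
        obtain rfl : m = j := by omega
        rw [map_sub, hf₀]
        split_ifs with h
        · exact sub_self _
        · rw [sub_zero]
          have hr₁ : coeff m (sb s hs0 (f - f₀)) = 0 := by
            rw [map_sub, hf, hE, ← AlgHom.comp_apply, ← hφ, AlgHom.comp_apply, ← map_sub]
            exact (mem_range_nu q _).1 ⟨_, rfl⟩ m h (by omega)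
          rw [coeff_sb_of_dvd s hs0 hjd, hs1, one_pow, mul_one, map_sub, hf₀, if_neg h, sub_zero]
            at hr₁
          exact hr₁
    obtain ⟨c, hc'⟩ := mem_range_of_dvd q (c := f - f₀)
      ((pow_dvd_pow _ (Nat.le_succ _)).trans (hO _ le_rfl))
    refine ⟨c + ArSing.xMap k (2 * q) (mk fun i => coeff (2 * i) f), nu_injective q ?_⟩
    rw [← AlgHom.comp_apply, hφ, AlgHom.comp_apply, map_add (nu q), hc', ← hE, sub_add_cancel, hf]
  refine ⟨AlgEquiv.ofBijective φ ⟨hinj, hsurj⟩, nu_injective q ?_, nu_injective q ?_⟩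
  · show nu q (σ (φ _)) = nu q (φ _)
    rw [hx, hext, hP', map_pow, hsτ, neg_sq]
  · show nu q (σ (φ _)) = nu q (-φ _)
    rw [hy, hext, map_neg, hQ, map_pow, hsτ, Odd.neg_pow ⟨q, rfl⟩]

end Groth.Agent.ArNF
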