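import Groth.Agent.ArNF.Branches
import Groth.Agent.ArNF.Cusp

/-! Coordinates on `k⟦x, y⟧/(y² - x^n)` as a free module over `k⟦x⟧`, and lengths of quotients. -/

set_option autoImplicit false
set_option linter.all false
universe u

noncomputable section

namespace Groth.Agent.ArNF

open PowerSeries

variable {k : Type u} [Field k] (r : ℕ)

local notation "A" => ArSing.ring k r

theorem eq_of_forall_hom (h2 : (2 : k) ≠ 0) {a b : A} (h : ∀ f : A →ₐ[k] k⟦X⟧, f a = f b) :
    a = b := by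
  rcases Nat.even_or_odd' r with ⟨q, rfl | rfl⟩
  · exact nu_injective q (h _)
  · exact br_injective (q := q + 1) (by omega) h2 (h _) (h _)

theorem homPS_ext (h2 : (2 : k) ≠ 0) {f g : k⟦X⟧ →ₐ[k] A} (h : f X = g X) : f = g :=
  AlgHom.ext fun a => eq_of_forall_hom r h2 fun z =>
    AlgHom.congr_fun (algHom_ext_X (f := z.comp f) (g := z.comp g) (by simp [h])) a

theorem homRing_ext (h2 : (2 : k) ≠ 0) {r' : ℕ} {f g : ArSing.ring k r' →ₐ[k] A}
    (hx : f (ArSing.x k r') = g (ArSing.x k r')) (hy : f (ArSing.y k r') = g (ArSing.y k r')) :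
    f = g :=
  AlgHom.ext fun a => eq_of_forall_hom r h2 fun z =>
    AlgHom.congr_fun (algHom_ext r' (f := z.comp f) (g := z.comp g) (by simp [hx]) (by simp [hy])) a

theorem decomp_unique (h2 : (2 : k) ≠ 0) {f g : k⟦X⟧}
    (h : ArSing.xMap k r f + ArSing.xMap k r g * ArSing.y k r = 0) : f = 0 ∧ g = 0 := by
  rcases Nat.even_or_odd' r with ⟨q, rfl | rfl⟩
  · have h' := congrArg (nu q) h
    rw [nu_decomp, map_zero] at h'
    constructor
    · refine PowerSeries.ext fun i => ?_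
      have := congrArg (coeff (2 * i)) h'
      rwa [coeff_nu, if_pos (dvd_mul_right 2 i), Nat.mul_div_cancel_left i two_pos, map_zero] at this
    · refine PowerSeries.ext fun i => ?_
      have := congrArg (coeff (2 * q + 1 + 2 * i)) h'
      rwa [coeff_nu, if_neg (show ¬ 2 ∣ 2 * q + 1 + 2 * i by omega),
        if_pos (show 2 * q + 1 ≤ 2 * q + 1 + 2 * i by omega), Nat.add_sub_cancel_left,
        Nat.mul_div_cancel_left i two_pos, map_zero] at this
  · have hq : 2 * q + 1 + 1 = 2 * (q + 1) := by omega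
    have h₁ := congrArg (pp (k := k) hq) h
    have h₂ := congrArg (pm (k := k) hq) h
    simp only [br_decomp, map_one, map_neg, map_zero] at h₁ h₂
    have e1 : f + f = 0 := by linear_combination h₁ + h₂
    have e2 : (g + g) * X ^ (q + 1) = 0 := by linear_combination h₁ - h₂
    constructor
    · rw [← half_mul h2 f, e1, mul_zero]
    · rw [← half_mul h2 g, (mul_eq_zero.1 e2).resolve_right (pow_ne_zero _ X_ne_zero), mul_zero]

variable {r}

/-- The even coordinate. -/
def cf (a : A) : k⟦X⟧ := (exists_decomp r a).choose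
/-- The odd coordinate. -/
def cg (a : A) : k⟦X⟧ := (exists_decomp r a).choose_spec.choose

theorem cf_cg (a : A) : a = ArSing.xMap k r (cf a) + ArSing.xMap k r (cg a) * ArSing.y k r :=
  (exists_decomp r a).choose_spec.choose_spec

variable (h2 : (2 : k) ≠ 0)

include h2 in
theorem coord_eq {a : A} {f g : k⟦X⟧}
    (h : a = ArSing.xMap k r f + ArSing.xMap k r g * ArSing.y k r) : cf a = f ∧ cg a = g := by
  have h0 : ArSing.xMap k r (cf a - f) + ArSing.xMap k r (cg a - g) * ArSing.y k r = 0 := by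
    rw [map_sub, map_sub]
    linear_combination h - cf_cg a
  obtain ⟨h₁, h₂⟩ := decomp_unique r h2 h0
  exact ⟨sub_eq_zero.1 h₁, sub_eq_zero.1 h₂⟩

include h2 in
theorem coord_mul (a b : A) :
    cf (a * b) = cf a * cf b + cg a * cg b * X ^ (r + 1) ∧
      cg (a * b) = cf a * cg b + cg a * cf b := by
  refine coord_eq h2 ?_
  conv_lhs => rw [cf_cg a, cf_cg b]
  simp only [map_add, map_mul, map_pow, xMap_X, ← y_sq]
  ring

include h2 in
theorem coord_y : cf (ArSing.y k r) = 0 ∧ cg (ArSing.y k r) = 1 :=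
  coord_eq h2 (by simp)

include h2 in
theorem coord_xMap (f : k⟦X⟧) : cf (ArSing.xMap k r f) = f ∧ cg (ArSing.xMap k r f) = 0 :=
  coord_eq h2 (by simp)

include h2 in
theorem coord_x : cf (ArSing.x k r) = X ∧ cg (ArSing.x k r) = 0 := by
  rw [← xMap_X]; exact coord_xMap h2 X

variable (r) in
/-- Evaluation at the closed point. -/
def pt : A →ₐ[k] k⟦X⟧ := toPS r 0 0 (map_zero _) (map_zero _) (by simp)

theorem xMap_not_unit : constantCoeff (pt r (ArSing.xMap k r (X : k⟦X⟧))) = 0 := by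
  rw [xMap_X]; simp [pt]

/-- The length of a quotient isomorphic to `k⟦X⟧/(X^N)`. -/
theorem length_quotient_eq (I : Ideal A) (N : ℕ)
    (ψ : A →ₐ[k] (k⟦X⟧ ⧸ Ideal.span ({X ^ N} : Set k⟦X⟧))) (hψ : Function.Surjective ψ)
    (hI : ∀ a, ψ a = 0 ↔ a ∈ I) : Module.length A (A ⧸ I) = N := by
  letI : Algebra A (k⟦X⟧ ⧸ Ideal.span ({X ^ N} : Set k⟦X⟧)) := ψ.toRingHom.toAlgebra
  let L : A →ₗ[A] (k⟦X⟧ ⧸ Ideal.span ({X ^ N} : Set k⟦X⟧)) := Algebra.linearMap A _
  have hL : LinearMap.ker L = I := Ideal.ext fun a => hI a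
  let e : (A ⧸ I) ≃ₗ[A] (k⟦X⟧ ⧸ Ideal.span ({X ^ N} : Set k⟦X⟧)) :=
    (Submodule.quotEquivOfEq _ _ hL.symm).trans (L.quotKerEquivOfSurjective hψ)
  rw [e.length_eq, Module.length_eq_of_surjective (R := k⟦X⟧ ⧸ Ideal.span ({X ^ N} : Set k⟦X⟧)) hψ,
    ← Module.length_eq_of_surjective (R := k⟦X⟧ ⧸ Ideal.span ({X ^ N} : Set k⟦X⟧)) (S := k⟦X⟧)
      Ideal.Quotient.mk_surjective,
    ← IsDiscreteValuationRing.length_quotient_pow_maximalIdeal (R := k⟦X⟧) N,
    maximalIdeal_eq_span_X, Ideal.span_singleton_pow]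

end Groth.Agent.ArNF
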