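import Groth.Agent.ArNF.Branches
import Mathlib

/-! The involution of the node exchanging `x` and `y`. -/

set_option autoImplicit false
set_option linter.all false
universe u

noncomputable section

namespace Groth.Agent.ArNF

open PowerSeries

variable {k : Type u} [Field k]

local notation "A" => ArSing.ring k 1

theorem ann_of_flat {R S : Type*} [CommRing R] [CommRing S] (φ : R →+* S) (hf : φ.Flat)
    (u : R) (v : S) (h : φ u * v = 0) :
    ∃ (n : ℕ) (a : Fin n → R) (y : Fin n → S), v = ∑ j, φ (a j) * y j ∧ ∀ j, u * a j = 0 := by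
  letI := φ.toAlgebra
  haveI : Module.Flat R S := hf
  obtain ⟨n, a, y, hy, ha⟩ := Module.Flat.isTrivialRelation_of_sum_smul_eq_zero
    (f := fun _ : Fin 1 => u) (x := fun _ : Fin 1 => v)
    (by rw [Fin.sum_univ_one, Algebra.smul_def]; exact h)
  refine ⟨n, a 0, y, ?_, fun j => by have := ha j; rwa [Fin.sum_univ_one] at this⟩
  rw [show v = _ from hy 0]
  exact Finset.sum_congr rfl fun j _ => Algebra.smul_def _ _

theorem node_hr : 1 + 1 = 2 * 1 := rfl

theorem node_swap (h2 : (2 : k) ≠ 0) (σ : A ≃ₐ[k] A) (hx : σ (ArSing.x k 1) = ArSing.y k 1)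
    (hy : σ (ArSing.y k 1) = ArSing.x k 1) (φ : A →ₐ[k] A)
    (hφu : φ (ArSing.x k 1 + ArSing.y k 1) = ArSing.x k 1 + ArSing.y k 1)
    (hφv : φ (ArSing.y k 1 - ArSing.x k 1) = (ArSing.y k 1 - ArSing.x k 1) ^ 2) :
    (∀ a : A, σ a = a ↔ a ∈ φ.range) ∧ Function.Injective φ ∧
      Ideal.span (Set.range fun a : A => σ a - a) = Ideal.span {ArSing.y k 1 - ArSing.x k 1} ∧
      (ArSing.y k 1 - ArSing.x k 1) ∉ nonZeroDivisors A ∧
      Ideal.span {ArSing.y k 1 - ArSing.x k 1} ∈ minimalPrimes A ∧ ¬ φ.toRingHom.Flat := by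
  let P : A →ₐ[k] k⟦X⟧ := pp node_hr
  let M : A →ₐ[k] k⟦X⟧ := pm node_hr
  have Px : P (ArSing.x k 1) = X := br_x ..
  have Py : P (ArSing.y k 1) = X := by simp [P]
  have Mx : M (ArSing.x k 1) = X := br_x ..
  have My : M (ArSing.y k 1) = -X := by simp [M]
  have hext : ∀ {a b : A}, P a = P b → M a = M b → a = b := fun h₁ h₂ => br_injective node_hr h2 h₁ h₂
  have h2C : C (2⁻¹ : k) * (2 : k⟦X⟧) = 1 := by
    rw [show (2 : k⟦X⟧) = C (2 : k) from (map_ofNat C 2).symm, ← map_mul, inv_mul_cancel₀ h2, map_one]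
  -- the action of σ on the branches
  have hPσ : ∀ a, P (σ a) = P a := fun a =>
    AlgHom.congr_fun (algHom_ext 1 (f := P.comp σ.toAlgHom) (g := P)
      (show P (σ (ArSing.x k 1)) = _ by rw [hx, Py, Px])
      (show P (σ (ArSing.y k 1)) = _ by rw [hy, Py, Px])) a
  have hnegX : constantCoeff (-X : k⟦X⟧) = 0 := by rw [map_neg, constantCoeff_X, neg_zero]
  have hMσ : ∀ a, M (σ a) = rescale (-1) (M a) := by
    intro a
    have := AlgHom.congr_fun (algHom_ext 1 (f := M.comp σ.toAlgHom)
      (g := (sb (-X : k⟦X⟧) hnegX).comp M)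
      (show M (σ (ArSing.x k 1)) = sb (-X) hnegX (M (ArSing.x k 1)) by rw [hx, My, Mx, sb_X])
      (show M (σ (ArSing.y k 1)) = sb (-X) hnegX (M (ArSing.y k 1)) by rw [hy, My, Mx, map_neg, sb_X, neg_neg])) a
    rw [show M (σ a) = _ from this, AlgHom.comp_apply, sb_apply, rescale_eq_subst, neg_one_smul]
  -- the action of φ on the branches
  have u₁ := congrArg P hφu
  have v₁ := congrArg P hφv
  have u₂ := congrArg M hφu
  have v₂ := congrArg M hφv
  simp only [map_add, map_sub, map_pow, Px, Py, Mx, My] at u₁ v₁ u₂ v₂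
  have hPφ : ∀ a, P (φ a) = P a := by
    have e₁ : P (φ (ArSing.x k 1)) = X := by
      linear_combination (C (2⁻¹ : k)) * u₁ - (C (2⁻¹ : k)) * v₁ -
        (P (φ (ArSing.x k 1)) - X) * h2C
    exact fun a => AlgHom.congr_fun (algHom_ext 1 (f := P.comp φ) (g := P)
      (by rw [AlgHom.comp_apply, e₁, Px])
      (by rw [AlgHom.comp_apply, Py]; linear_combination u₁ - e₁)) a
  have hw : constantCoeff ((-2) * X ^ 2 : k⟦X⟧) = 0 := by simp
  have hMφ : ∀ a, M (φ a) = sb ((-2) * X ^ 2) hw (M a) := by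
    have e₁ : M (φ (ArSing.x k 1)) = (-2) * X ^ 2 := by
      linear_combination (C (2⁻¹ : k)) * u₂ - (C (2⁻¹ : k)) * v₂ -
        (M (φ (ArSing.x k 1)) + 2 * X ^ 2) * h2C
    exact fun a => AlgHom.congr_fun (algHom_ext 1 (f := M.comp φ) (g := (sb _ hw).comp M)
      (by rw [AlgHom.comp_apply, AlgHom.comp_apply, e₁, Mx, sb_X])
      (by rw [AlgHom.comp_apply, AlgHom.comp_apply, My, map_neg, sb_X]
          linear_combination u₂ - e₁)) a
  let G : k⟦X⟧ := (-2 : k⟦X⟧) * X
  have hG : constantCoeff G = 0 := by simp [G]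
  have hG1 : coeff 1 G ≠ 0 := by
    simp only [G, show (-2 : k⟦X⟧) = C (-2 : k) by rw [map_neg, map_ofNat], coeff_C_mul, coeff_one_X,
      mul_one]
    exact neg_ne_zero.2 h2
  have hsbw : ∀ f, sb ((-2) * X ^ 2) hw f = subst (X ^ 2 : k⟦X⟧) (sb G hG f) := by
    intro f
    rw [← sb_apply (X ^ 2 : k⟦X⟧) (by simp), ← AlgHom.comp_apply]
    exact AlgHom.congr_fun (algHom_ext_X (g := (sb (X ^ 2) (by simp)).comp (sb G hG)) (by
      simp only [AlgHom.comp_apply, sb_X, G, map_mul, map_neg, map_ofNat])) f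
  have hinj : Function.Injective φ := by
    intro a b h
    refine hext (by rw [← hPφ, h, hPφ]) ((sb_bijective G hG hG1).1 (PowerSeries.ext fun i => ?_))
    have := congrArg (fun z => coeff (2 * i) (M z)) h
    simp only [hMφ, hsbw, coeff_subst_X_pow two_ne_zero, if_pos (dvd_mul_right 2 i),
      Nat.mul_div_cancel_left i two_pos, Algebra.algebraMap_self, RingHom.id_apply] at this
    exact this
  have hPM : ∀ a : A, constantCoeff (P a) = constantCoeff (M a) := fun a => by
    have := sub_dvd node_hr a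
    rw [pow_one, X_dvd_iff, map_sub, sub_eq_zero] at this
    exact this
  have hrange : ∀ a : A, σ a = a ↔ a ∈ φ.range := by
    intro a
    constructor
    · intro h
      have hM : rescale (-1) (M a) = M a := by rw [← hMσ, h]
      have hodd : ∀ j, ¬ 2 ∣ j → coeff j (M a) = 0 := by
        intro j hj
        have := congrArg (coeff j) hM
        rw [coeff_rescale, (Nat.not_even_iff_odd.1 (mt even_iff_two_dvd.1 hj)).neg_one_pow] at this
        exact (mul_eq_zero.1 (show (2 : k) * coeff j (M a) = 0 by linear_combination -this)).resolve_left h2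
      obtain ⟨f, hf⟩ := (sb_bijective G hG hG1).2 (mk fun i => coeff (2 * i) (M a))
      have hf0 : constantCoeff f = constantCoeff (P a) := by
        rw [← constantCoeff_sb G hG f, hf, ← coeff_zero_eq_constantCoeff, coeff_mk, mul_zero,
          coeff_zero_eq_constantCoeff, hPM]
      obtain ⟨c, hc₁, hc₂⟩ := exists_pair node_hr h2 (a := P a) (b := f)
        (by rw [pow_one, X_dvd_iff, map_sub, hf0, sub_self])
      refine ⟨c, hext (hPφ c ▸ hc₁) ?_⟩
      show M (φ c) = M a
      rw [hMφ, show M c = f from hc₂, hsbw, hf]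
      refine PowerSeries.ext fun j => ?_
      rw [coeff_subst_X_pow two_ne_zero, coeff_mk, Algebra.algebraMap_self, RingHom.id_apply]
      split_ifs with hj
      · rw [Nat.mul_div_cancel' hj]
      · exact (hodd j hj).symm
    · rintro ⟨c, rfl⟩
      refine hext (hPσ _) ?_
      show M (σ (φ c)) = M (φ c)
      rw [hMσ, hMφ, hsbw]
      refine PowerSeries.ext fun j => ?_
      rw [coeff_rescale, coeff_subst_X_pow two_ne_zero]
      split_ifs with hj
      · rw [(even_iff_two_dvd.2 hj).neg_one_pow, one_mul]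
      · rw [mul_zero]
  let v : A := ArSing.y k 1 - ArSing.x k 1
  let u : A := ArSing.x k 1 + ArSing.y k 1
  have Pv : P v = 0 := by simp [v, Px, Py]
  have Mv : M v = (-2) * X := by simp only [v, map_sub, Mx, My]; ring
  have Pu : P u = 2 * X := by simp only [u, map_add, Px, Py]; ring
  have Mu : M u = 0 := by simp [u, Mx, My]
  have h2X : (2 * X : k⟦X⟧) ≠ 0 := mul_ne_zero (fun h => h2 (by
    simpa [map_ofNat] using congrArg constantCoeff h)) X_ne_zero
  have huv : u * v = 0 := hext (by rw [map_mul, Pv, mul_zero, map_zero])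
    (by rw [map_mul, Mu, zero_mul, map_zero])
  have hker : ∀ a : A, a ∈ Ideal.span {v} ↔ P a = 0 := by
    intro a
    constructor
    · intro h
      obtain ⟨c, rfl⟩ := Ideal.mem_span_singleton'.1 h
      rw [map_mul, Pv, mul_zero]
    · intro h
      have h0 : constantCoeff (M a) = 0 := by rw [← hPM, h, map_zero]
      obtain ⟨g, hg⟩ := X_dvd_iff.2 h0
      let g' : k⟦X⟧ := C (-(2 : k)⁻¹) * g
      obtain ⟨c, hc₁, hc₂⟩ := exists_pair node_hr h2 (a := C (constantCoeff g')) (b := g')
        (by rw [pow_one, X_dvd_iff, map_sub, constantCoeff_C, sub_self])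
      refine Ideal.mem_span_singleton'.2 ⟨c, hext ?_ ?_⟩
      · rw [map_mul, Pv, mul_zero, h]
      · rw [map_mul, Mv, show M c = g' from hc₂, hg]
        simp only [g', map_neg]
        linear_combination (X * g) * h2C
  have hprime : (Ideal.span {v}).IsPrime := by
    rw [show Ideal.span {v} = RingHom.ker P from Ideal.ext fun a => (hker a).trans RingHom.mem_ker.symm]
    exact RingHom.ker_isPrime _
  refine ⟨hrange, hinj, le_antisymm (Ideal.span_le.2 ?_) (Ideal.span_le.2 ?_), fun hnz => ?_, ?_, ?_⟩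
  · rintro _ ⟨a, rfl⟩
    exact (hker _).2 (by rw [map_sub, hPσ, sub_self])
  · rintro _ rfl
    exact Ideal.subset_span ⟨ArSing.x k 1, by simp only [hx, v]⟩
  · have : u = 0 := mem_nonZeroDivisors_iff_right.1 hnz u huv
    exact h2X (by rw [← Pu, this, map_zero])
  · refine ⟨⟨hprime, bot_le⟩, fun p hp hle => Ideal.span_le.2 ?_⟩
    rintro _ rfl
    refine (hp.1.mem_or_mem (show u * v ∈ p by rw [huv]; exact zero_mem _)).resolve_left fun hu => ?_
    exact h2X (by rw [← Pu, (hker u).1 (hle hu)])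
  · intro hflat
    obtain ⟨κ, a, y, hy', ha⟩ := ann_of_flat φ.toRingHom hflat u v
      (show φ u * v = 0 by rw [hφu]; exact huv)
    have hX2 : (X : k⟦X⟧) ^ 2 ∣ M v := by
      rw [hy', map_sum]
      refine Finset.dvd_sum fun j _ => ?_
      have hj := ha j
      have hPa : P (a j) = 0 := by
        have := congrArg P hj
        rw [map_mul, Pu, map_zero] at this
        exact (mul_eq_zero.1 this).resolve_left h2X
      have h0 : constantCoeff (M (a j)) = 0 := by rw [← hPM, hPa, map_zero]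
      rw [map_mul]
      refine dvd_mul_of_dvd_left ?_ _
      show (X : k⟦X⟧) ^ 2 ∣ M (φ (a j))
      rw [hMφ]
      obtain ⟨z, hz⟩ := X_dvd_iff.2 h0
      rw [hz, map_mul, sb_X]
      exact dvd_mul_of_dvd_left (dvd_mul_left _ _) _
    have := X_pow_dvd_iff.1 hX2 1 (by norm_num)
    rw [Mv, show (-2 : k⟦X⟧) = C (-2 : k) by rw [map_neg, map_ofNat], coeff_C_mul, coeff_one_X,
      mul_one, neg_eq_zero] at this
    exact h2 this

end Groth.Agent.ArNF
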