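import Groth.Agent.ArNF.Coords
import Groth.Agent.ArNF.NodeSwap

/-! Quotients of `k⟦x, y⟧/(y² - x^n)` by the standard involutions. -/

set_option autoImplicit false
set_option linter.all false
universe u

noncomputable section

namespace Groth.Agent.ArNF

open PowerSeries

variable {k : Type u} [Field k] {r : ℕ} (h2 : (2 : k) ≠ 0)

local notation "A" => ArSing.ring k r

include h2 in
theorem eq_of_coord {a b : A} (hf : cf a = cf b) (hg : cg a = cg b) : a = b := by
  rw [cf_cg a, cf_cg b, hf, hg]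

include h2 in
theorem coord_smul_y (g : k⟦X⟧) :
    cf (ArSing.xMap k r g * ArSing.y k r) = 0 ∧ cg (ArSing.xMap k r g * ArSing.y k r) = g :=
  coord_eq h2 (by simp)

theorem neg_one_pow_fix (h2 : (2 : k) ≠ 0) {j : ℕ} (hj : ¬ 2 ∣ j) {c : k} (h : (-1 : k) ^ j * c = c) :
    c = 0 := by
  rw [(Nat.not_even_iff_odd.1 (mt even_iff_two_dvd.1 hj)).neg_one_pow] at h
  exact (mul_eq_zero.1 (show (2 : k) * c = 0 by linear_combination -h)).resolve_left h2

/-- Even part: `f(x) = fe(x²) + x fo(x²)`. -/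
def evenPart (f : k⟦X⟧) : k⟦X⟧ := mk fun i => coeff (2 * i) f
def oddPart (f : k⟦X⟧) : k⟦X⟧ := mk fun i => coeff (2 * i + 1) f

theorem even_add_odd (f : k⟦X⟧) :
    subst (X ^ 2 : k⟦X⟧) (evenPart f) + X * subst (X ^ 2 : k⟦X⟧) (oddPart f) = f := by
  refine PowerSeries.ext fun j => ?_
  rw [map_add, coeff_subst_X_pow two_ne_zero, ← pow_one (X : k⟦X⟧), coeff_X_pow_mul', pow_one]
  simp only [evenPart, oddPart, coeff_mk, coeff_subst_X_pow two_ne_zero, Algebra.algebraMap_self,
    RingHom.id_apply]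
  split_ifs <;> first | (exfalso; omega) | (simp only [add_zero, zero_add]; congr 2; omega)

theorem coeff_even (a b : k⟦X⟧) (i : ℕ) :
    coeff (2 * i) (subst (X ^ 2 : k⟦X⟧) a + X * subst (X ^ 2 : k⟦X⟧) b) = coeff i a := by
  rw [map_add, coeff_subst_X_pow two_ne_zero, ← pow_one (X : k⟦X⟧), coeff_X_pow_mul', pow_one,
    if_pos (dvd_mul_right 2 i)]
  simp only [coeff_subst_X_pow two_ne_zero, Algebra.algebraMap_self, RingHom.id_apply,
    Nat.mul_div_cancel_left i two_pos]
  split_ifs <;> first | (exfalso; omega) | simp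

theorem coeff_odd (a b : k⟦X⟧) (i : ℕ) :
    coeff (2 * i + 1) (subst (X ^ 2 : k⟦X⟧) a + X * subst (X ^ 2 : k⟦X⟧) b) = coeff i b := by
  rw [map_add, coeff_subst_X_pow two_ne_zero, ← pow_one (X : k⟦X⟧), coeff_X_pow_mul', pow_one,
    if_neg (show ¬ 2 ∣ 2 * i + 1 by omega), if_pos (show 1 ≤ 2 * i + 1 by omega), zero_add,
    Nat.add_sub_cancel, coeff_subst_X_pow two_ne_zero, if_pos (dvd_mul_right 2 i),
    Nat.mul_div_cancel_left i two_pos]
  rfl

theorem even_odd_inj {a b a' b' : k⟦X⟧}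
    (h : subst (X ^ 2 : k⟦X⟧) a + X * subst (X ^ 2 : k⟦X⟧) b =
      subst (X ^ 2 : k⟦X⟧) a' + X * subst (X ^ 2 : k⟦X⟧) b') : a = a' ∧ b = b' := by
  constructor <;> refine PowerSeries.ext fun i => ?_
  · rw [← coeff_even a b i, h, coeff_even]
  · rw [← coeff_odd a b i, h, coeff_odd]

theorem rescale_eq_self_iff (h2 : (2 : k) ≠ 0) (f : k⟦X⟧) :
    rescale (-1) f = f ↔ subst (X ^ 2 : k⟦X⟧) (evenPart f) = f := by
  constructor
  · intro h
    refine PowerSeries.ext fun j => ?_
    simp only [evenPart, coeff_subst_X_pow two_ne_zero, coeff_mk, Algebra.algebraMap_self,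
      RingHom.id_apply]
    split_ifs with hj
    · rw [Nat.mul_div_cancel' hj]
    · exact (neg_one_pow_fix h2 hj (by rw [← coeff_rescale, h])).symm
  · intro h
    rw [← h]
    refine PowerSeries.ext fun j => ?_
    rw [coeff_rescale, coeff_subst_X_pow two_ne_zero]
    split_ifs with hj
    · rw [(even_iff_two_dvd.2 hj).neg_one_pow, one_mul]
    · rw [mul_zero]

theorem rescale_eq_neg_iff (h2 : (2 : k) ≠ 0) (f : k⟦X⟧) :
    -rescale (-1) f = f ↔ X * subst (X ^ 2 : k⟦X⟧) (oddPart f) = f := by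
  constructor
  · intro h
    have he : evenPart f = 0 := by
      refine PowerSeries.ext fun i => ?_
      have := congrArg (coeff (2 * i)) h
      rw [map_neg, coeff_rescale, (even_two_mul i).neg_one_pow, one_mul] at this
      rw [evenPart, coeff_mk, map_zero]
      exact (mul_eq_zero.1 (show (2 : k) * coeff (2 * i) f = 0 by linear_combination -this)).resolve_left h2
    have := even_add_odd f
    rwa [he, ← coe_substAlgHom (HasSubst.X_pow two_ne_zero), map_zero, zero_add,
      coe_substAlgHom] at this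
  · intro h
    rw [← h, map_mul, show rescale (-1 : k) X = -X by
      refine PowerSeries.ext fun j => ?_
      rw [coeff_rescale, map_neg, coeff_X]
      split_ifs with hj
      · subst hj; norm_num
      · simp]
    have : rescale (-1) (subst (X ^ 2 : k⟦X⟧) (oddPart f)) = subst (X ^ 2 : k⟦X⟧) (oddPart f) := by
      refine PowerSeries.ext fun j => ?_
      rw [coeff_rescale, coeff_subst_X_pow two_ne_zero]
      split_ifs with hj
      · rw [(even_iff_two_dvd.2 hj).neg_one_pow, one_mul]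
      · rw [mul_zero]
    rw [this]
    ring

include h2 in
/-- The action of `x ↦ -x`, `y ↦ e y`. -/
theorem coord_neg_x (e : k) (σ : A ≃ₐ[k] A) (hx : σ (ArSing.x k r) = -ArSing.x k r)
    (hy : σ (ArSing.y k r) = e • ArSing.y k r) (a : A) :
    cf (σ a) = rescale (-1) (cf a) ∧ cg (σ a) = C e * rescale (-1) (cg a) := by
  have hσ : ∀ f : k⟦X⟧, σ (ArSing.xMap k r f) = ArSing.xMap k r (rescale (-1) f) := by
    intro f
    have h := homPS_ext r h2 (f := σ.toAlgHom.comp (ArSing.xMap k r))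
      (g := (ArSing.xMap k r).comp (sb (-X : k⟦X⟧) (by rw [map_neg, constantCoeff_X, neg_zero])))
      (by show σ (ArSing.xMap k r X) = ArSing.xMap k r (sb (-X : k⟦X⟧) (by rw [map_neg, constantCoeff_X, neg_zero]) X)
          rw [sb_X, map_neg, xMap_X, hx])
    rw [show σ (ArSing.xMap k r f) = _ from AlgHom.congr_fun h f, AlgHom.comp_apply, sb_apply,
      rescale_eq_subst, neg_one_smul]
  refine coord_eq h2 ?_
  conv_lhs => rw [cf_cg a]
  rw [map_add, map_mul, hσ, hσ, hy]
  simp only [map_mul (ArSing.xMap k r),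
    show ArSing.xMap k r (C e) = algebraMap k A e from (ArSing.xMap k r).commutes e]
  rw [Algebra.algebraMap_eq_smul_one, smul_one_mul, smul_mul_assoc, mul_smul_comm]

include h2 in
theorem phi_xMap {r' : ℕ} (φ : ArSing.ring k r' →ₐ[k] A)
    (hφx : φ (ArSing.x k r') = ArSing.x k r ^ 2) (f : k⟦X⟧) :
    φ (ArSing.xMap k r' f) = ArSing.xMap k r (subst (X ^ 2 : k⟦X⟧) f) := by
  have h := homPS_ext r h2 (f := φ.comp (ArSing.xMap k r'))
    (g := (ArSing.xMap k r).comp (sb (X ^ 2 : k⟦X⟧) (by simp)))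
    (by rw [AlgHom.comp_apply, xMap_X, hφx, AlgHom.comp_apply, sb_X, map_pow, xMap_X])
  rw [← AlgHom.comp_apply, h, AlgHom.comp_apply, sb_apply]

include h2 in
/-- Quotient by `x ↦ x`, `y ↦ -y`. -/
theorem inv_neg_y (σ : A ≃ₐ[k] A) (hx : σ (ArSing.x k r) = ArSing.x k r)
    (hy : σ (ArSing.y k r) = -ArSing.y k r) :
    (∀ a : A, σ a = a ↔ a ∈ (ArSing.xMap k r).range) ∧
      ((ArSing.xMap k r).toRingHom.Flat ∧
        Ideal.map (ArSing.xMap k r) (IsLocalRing.maximalIdeal k⟦X⟧) ≠ ⊤) ∧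
      (∃ g : A, g ∈ nonZeroDivisors A ∧
        Ideal.span (Set.range fun a : A => σ a - a) = Ideal.span {g}) ∧
      Module.length A (A ⧸ Ideal.span (Set.range fun a : A => σ a - a)) = r + 1 := by
  have hσx : ∀ f : k⟦X⟧, σ (ArSing.xMap k r f) = ArSing.xMap k r f := fun f =>
    AlgHom.congr_fun (homPS_ext r h2 (f := σ.toAlgHom.comp (ArSing.xMap k r))
      (g := ArSing.xMap k r)
      (show σ (ArSing.xMap k r X) = _ by rw [xMap_X, hx])) f
  have hσ : ∀ a : A, σ a = ArSing.xMap k r (cf a) - ArSing.xMap k r (cg a) * ArSing.y k r := by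
    intro a
    conv_lhs => rw [cf_cg a]
    rw [map_add, map_mul, hσx, hσx, hy]; ring
  have hspan : Ideal.span (Set.range fun a : A => σ a - a) = Ideal.span {ArSing.y k r} := by
    refine le_antisymm (Ideal.span_le.2 ?_) (Ideal.span_le.2 ?_)
    · rintro _ ⟨a, rfl⟩
      refine Ideal.mem_span_singleton'.2 ⟨-(2 * ArSing.xMap k r (cg a)), ?_⟩
      simp only [hσ a]
      linear_combination cf_cg a
    · rintro _ rfl
      have : ArSing.y k r = algebraMap k A (-2⁻¹) * (σ (ArSing.y k r) - ArSing.y k r) := by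
        rw [hy]
        have h21 : algebraMap k A 2⁻¹ * 2 = 1 := by
          rw [← map_ofNat (algebraMap k A) 2, ← map_mul, inv_mul_cancel₀ h2, map_one]
        rw [map_neg]
        linear_combination (-ArSing.y k r) * h21
      rw [this]
      exact Ideal.mul_mem_left _ _ (Ideal.subset_span ⟨_, rfl⟩)
  refine ⟨fun a => ⟨fun h => ?_, ?_⟩, ⟨?_, ?_⟩, ⟨_, ?_, hspan⟩, ?_⟩
  · have hc : cg (σ a) = -cg a := (coord_eq h2 (f := cf a) (g := -cg a) (by rw [hσ, map_neg]; ring)).2
    rw [h] at hc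
    have hg0 : cg a = 0 := by
      rw [← half_mul h2 (cg a)]
      linear_combination (C (2⁻¹ : k)) * hc
    refine ⟨cf a, ?_⟩
    conv_rhs => rw [cf_cg a, hg0, map_zero, zero_mul, add_zero]
    rfl
  · rintro ⟨f, rfl⟩
    exact hσx f
  · letI : Algebra k⟦X⟧ A := (ArSing.xMap k r).toRingHom.toAlgebra
    show Module.Flat k⟦X⟧ A
    let L : (k⟦X⟧ × k⟦X⟧) →ₗ[k⟦X⟧] A :=
      (Algebra.linearMap k⟦X⟧ A).coprod (LinearMap.toSpanSingleton k⟦X⟧ A (ArSing.y k r))
    have hL : ∀ p, L p = ArSing.xMap k r p.1 + ArSing.xMap k r p.2 * ArSing.y k r := fun p => rfl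
    refine Module.Flat.of_linearEquiv (LinearEquiv.ofBijective L ⟨?_, fun a => ⟨(cf a, cg a), ?_⟩⟩).symm
    · intro p p' h
      rw [hL, hL] at h
      obtain ⟨a₁, a₂⟩ := coord_eq h2 h
      obtain ⟨b₁, b₂⟩ := coord_eq h2 (rfl : ArSing.xMap k r p.1 + ArSing.xMap k r p.2 * ArSing.y k r = _)
      exact Prod.ext (b₁.symm.trans a₁) (b₂.symm.trans a₂)
    · rw [hL]; exact (cf_cg a).symm
  · intro htop
    have hle : Ideal.map (ArSing.xMap k r) (IsLocalRing.maximalIdeal k⟦X⟧) ≤
        RingHom.ker ((constantCoeff (R := k)).comp (pt r).toRingHom) := by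
      rw [maximalIdeal_eq_span_X, Ideal.map_span, Ideal.span_le, Set.image_singleton,
        Set.singleton_subset_iff]
      exact xMap_not_unit (r := r)
    rw [htop, top_le_iff, Ideal.eq_top_iff_one, RingHom.mem_ker] at hle
    simp at hle
  · refine mem_nonZeroDivisors_iff_right.2 fun a ha => ?_
    obtain ⟨m1, m2⟩ := coord_mul h2 a (ArSing.y k r)
    rw [(coord_y h2).1, (coord_y h2).2] at m1 m2
    obtain ⟨z1, z2⟩ := coord_eq h2 (show a * ArSing.y k r = ArSing.xMap k r 0 + ArSing.xMap k r 0 * ArSing.y k r by simp [ha])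
    rw [m1, mul_zero, zero_add, mul_one] at z1
    rw [m2, mul_one, mul_zero, add_zero] at z2
    refine eq_of_coord h2 ?_ ?_
    · rw [z2, (coord_eq h2 (show (0 : A) = ArSing.xMap k r 0 + ArSing.xMap k r 0 * ArSing.y k r by simp)).1]
    · rw [(mul_eq_zero.1 z1).resolve_right (pow_ne_zero _ X_ne_zero),
        (coord_eq h2 (show (0 : A) = ArSing.xMap k r 0 + ArSing.xMap k r 0 * ArSing.y k r by simp)).2]
  · rw [hspan]
    let J : Ideal k⟦X⟧ := Ideal.span {X ^ (r + 1)}
    let ψ : A →ₐ[k] (k⟦X⟧ ⧸ J) :=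
      Ideal.Quotient.liftₐ _ ((Ideal.Quotient.mkₐ k J).comp
        (MvPowerSeries.substAlgHom (hasSubst_pair (σ := Unit) (F := (X : k⟦X⟧)) (G := (0 : k⟦X⟧))
          constantCoeff_X (map_zero _)))) fun z hz => by
        obtain ⟨c, rfl⟩ := Ideal.mem_span_singleton'.1 hz
        rw [map_mul, AlgHom.comp_apply, AlgHom.comp_apply]
        show _ * Ideal.Quotient.mk J
          (MvPowerSeries.substAlgHom _ (MvPowerSeries.X 1 ^ 2 - MvPowerSeries.X 0 ^ (r + 1))) = 0
        rw [map_sub, map_pow, map_pow, MvPowerSeries.substAlgHom_X, MvPowerSeries.substAlgHom_X]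
        have h0 : Ideal.Quotient.mk J ((0 : k⟦X⟧) ^ 2 - X ^ (r + 1)) = 0 :=
          Ideal.Quotient.eq_zero_iff_mem.2 (J.sub_mem (by simp) (Ideal.mem_span_singleton_self _))
        exact (congrArg _ h0).trans (mul_zero _)
    have hψx : ψ (ArSing.x k r) = Ideal.Quotient.mk J X :=
      congrArg (Ideal.Quotient.mk J) (MvPowerSeries.substAlgHom_X (hasSubst_pair (σ := Unit) (F := (X : k⟦X⟧)) (G := (0 : k⟦X⟧)) constantCoeff_X (map_zero _)) 0)
    have hψy : ψ (ArSing.y k r) = 0 :=
      (congrArg (Ideal.Quotient.mk J) (MvPowerSeries.substAlgHom_X (hasSubst_pair (σ := Unit) (F := (X : k⟦X⟧)) (G := (0 : k⟦X⟧)) constantCoeff_X (map_zero _)) 1)).trans (map_zero _)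
    have hψf : ∀ f, ψ (ArSing.xMap k r f) = Ideal.Quotient.mk J f := by
      intro f
      obtain ⟨G, hG⟩ : ∃ G : k⟦X⟧, f = X ^ (r + 1) * G + ((trunc (r + 1) f : Polynomial k) : k⟦X⟧) :=
        ⟨_, eq_X_pow_mul_shift_add_trunc (r + 1) f⟩
      have hp : ∀ p : Polynomial k, ψ (ArSing.xMap k r (p : k⟦X⟧)) = Ideal.Quotient.mk J (p : k⟦X⟧) := by
        intro p
        induction p using Polynomial.induction_on' with
        | add p q hp hq => simp only [Polynomial.coe_add, map_add, hp, hq]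
        | monomial n c =>
          rw [Polynomial.coe_monomial, monomial_eq_C_mul_X_pow, map_mul, map_mul, map_pow, map_pow,
            xMap_X, hψx, map_mul, map_pow,
            show ψ (ArSing.xMap k r (C c)) = Ideal.Quotient.mk J (C c) from
              (ψ.comp (ArSing.xMap k r)).commutes c]
      have hX : Ideal.Quotient.mk J (X ^ (r + 1)) = 0 :=
        Ideal.Quotient.eq_zero_iff_mem.2 (Ideal.mem_span_singleton_self _)
      rw [hG, map_add, map_add, map_mul, map_mul, map_pow, map_pow, xMap_X, hψx, hp,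
        map_add (Ideal.Quotient.mk J), map_mul, ← map_pow, hX, zero_mul, zero_mul]
    refine (length_quotient_eq (Ideal.span {ArSing.y k r}) (r + 1) ψ (fun z => ?_) fun a => ?_).trans
      (by push_cast; rfl)
    · obtain ⟨f, rfl⟩ := Ideal.Quotient.mk_surjective z
      exact ⟨ArSing.xMap k r f, hψf f⟩
    · constructor
      · intro h
        conv_lhs at h => rw [cf_cg a, map_add, map_mul, hψf, hψy, mul_zero, add_zero]
        obtain ⟨d, hd⟩ := Ideal.mem_span_singleton'.1 (Ideal.Quotient.eq_zero_iff_mem.1 h)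
        refine Ideal.mem_span_singleton'.2 ⟨ArSing.xMap k r d * ArSing.y k r + ArSing.xMap k r (cg a), ?_⟩
        conv_rhs => rw [cf_cg a, ← hd, map_mul, map_pow, xMap_X, ← y_sq]
        ring
      · intro h
        obtain ⟨d, rfl⟩ := Ideal.mem_span_singleton'.1 h
        rw [map_mul, hψy, mul_zero]

end Groth.Agent.ArNF
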