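import Groth.Agent.ArNF.InvQuot

/-! Quotients of `k⟦x, y⟧/(y² - x^(2m))` by involutions negating `x`. -/

set_option autoImplicit false
set_option linter.all false
universe u

noncomputable section

namespace Groth.Agent.ArNF

open PowerSeries

variable {k : Type u} [Field k] {r : ℕ} (h2 : (2 : k) ≠ 0)

local notation "A" => ArSing.ring k r

/-- The linear part at the closed point. -/
def lin (a : A) : k × k := (coeff 1 (cf a), constantCoeff (cg a))

/-- The value at the closed point. -/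
def val (a : A) : k := constantCoeff (cf a)

include h2 in
theorem lin_val_mul (hr : 1 ≤ r) (a b : A) :
    val (a * b) = val a * val b ∧
      lin (a * b) = (val a * (lin b).1 + (lin a).1 * val b, val a * (lin b).2 + (lin a).2 * val b) := by
  obtain ⟨m1, m2⟩ := coord_mul h2 a b
  have hX : (X : k⟦X⟧) ^ (r + 1) = X * X * X ^ (r - 1) := by
    rw [← sq, ← pow_add]; congr 1; omega
  refine ⟨?_, Prod.ext ?_ ?_⟩
  · simp [val, m1]
  · simp only [lin, val, m1, map_add]
    rw [coeff_one_mul, hX, show cg a * cg b * (X * X * X ^ (r - 1)) =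
      X ^ 2 * (cg a * cg b * X ^ (r - 1)) by ring, coeff_X_pow_mul', if_neg (by omega), add_zero]
    ring
  · simp [lin, val, m2]

include h2 in
theorem add_coord (a b : A) : cf (a + b) = cf a + cf b ∧ cg (a + b) = cg a + cg b :=
  coord_eq h2 (by
    conv_lhs => rw [cf_cg a, cf_cg b]
    rw [map_add, map_add]; ring)

include h2 in
theorem lin_add (a b : A) : lin (a + b) = lin a + lin b := by
  simp [lin, (add_coord h2 a b).1, (add_coord h2 a b).2]

include h2 in
theorem lin_sum {ι : Type*} (s : Finset ι) (f : ι → A) (h : ∀ i ∈ s, lin (f i) = 0) :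
    lin (∑ i ∈ s, f i) = 0 := by
  induction s using Finset.cons_induction with
  | empty =>
    have := coord_eq h2 (show (0 : A) = ArSing.xMap k r 0 + ArSing.xMap k r 0 * ArSing.y k r by simp)
    simp [lin, this.1, this.2]
  | cons i s hi ih =>
    rw [Finset.sum_cons, lin_add h2, h i (Finset.mem_cons_self _ _),
      ih fun j hj => h j (Finset.mem_cons_of_mem hj), add_zero]

include h2 in
theorem val_pow (a : A) (ha : val a = 0) {j : ℕ} (hr : 1 ≤ r) (hj : 2 ≤ j) :
    val (a ^ j) = 0 ∧ lin (a ^ j) = 0 := by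
  obtain ⟨i, rfl⟩ : ∃ i, j = i + 1 + 1 := ⟨j - 2, by omega⟩
  obtain ⟨v1, l1⟩ := lin_val_mul h2 hr (a ^ i) a
  obtain ⟨v2, l2⟩ := lin_val_mul h2 hr (a ^ i * a) a
  rw [pow_succ, pow_succ]
  refine ⟨by rw [v2, ha, mul_zero], ?_⟩
  rw [l2, v1, ha]; simp

theorem span_le_val (h2 : (2 : k) ≠ 0) (hr : 1 ≤ r) {s : Set A} (hs : ∀ a ∈ s, val a = 0) {a : A}
    (ha : a ∈ Ideal.span s) : val a = 0 := by
  induction ha using Submodule.span_induction with
  | mem x hx => exact hs x hx
  | zero =>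
    have := coord_eq h2 (show (0 : A) = ArSing.xMap k r 0 + ArSing.xMap k r 0 * ArSing.y k r by simp)
    simp [val, this.1]
  | add x y _ _ hx hy => rw [val, (add_coord h2 x y).1, map_add]; simp_all [val]
  | smul c x _ hx => rw [smul_eq_mul, (lin_val_mul h2 hr c x).1, hx, mul_zero]

theorem dvd_X_of_const (f : k⟦X⟧) (h : constantCoeff f = 0) :
    ArSing.x k r ∣ ArSing.xMap k r f := by
  obtain ⟨g, rfl⟩ := X_dvd_iff.2 h
  exact ⟨ArSing.xMap k r g, by rw [map_mul, xMap_X]⟩

include h2 in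
theorem quotient_smul_mem {a : A} {s : Set A} (hr : 1 ≤ r) (hx : ArSing.x k r ∈ Ideal.span s)
    (hy : ArSing.y k r ∈ Ideal.span s) (ha : val a = 0) : a ∈ Ideal.span s := by
  rw [cf_cg a]
  exact Ideal.add_mem _ (Ideal.mem_of_dvd _ (dvd_X_of_const _ ha) hx) (Ideal.mul_mem_left _ _ hy)

include h2 in
/-- Quotient by `x ↦ -x`, `y ↦ y`. -/
theorem inv_neg_x (m : ℕ) (hm : 2 ≤ m) (hr : r = 2 * m - 1) (σ : A ≃ₐ[k] A)
    (hx : σ (ArSing.x k r) = -ArSing.x k r) (hy : σ (ArSing.y k r) = ArSing.y k r)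
    (φ : ArSing.ring k (m - 1) →ₐ[k] A) (hφx : φ (ArSing.x k (m - 1)) = ArSing.x k r ^ 2)
    (hφy : φ (ArSing.y k (m - 1)) = ArSing.y k r) :
    (∀ a : A, σ a = a ↔ a ∈ φ.range) ∧
      (φ.toRingHom.Flat ∧ ∀ I : Ideal (ArSing.ring k (m - 1)), I.IsMaximal → Ideal.map φ I ≠ ⊤) ∧
      (∃ g : A, g ∈ nonZeroDivisors A ∧
        Ideal.span (Set.range fun a : A => σ a - a) = Ideal.span {g}) ∧
      Module.length A (A ⧸ Ideal.span (Set.range fun a : A => σ a - a)) = 2 := by
  have hr1 : 1 ≤ r := by omega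
  have hσ : ∀ a : A, cf (σ a) = rescale (-1) (cf a) ∧ cg (σ a) = rescale (-1) (cg a) := by
    intro a
    have := coord_neg_x h2 1 σ hx (by rw [one_smul]; exact hy) a
    rwa [map_one, one_mul] at this
  have hφ : ∀ b, φ b = ArSing.xMap k r (subst (X ^ 2 : k⟦X⟧) (cf b)) +
      ArSing.xMap k r (subst (X ^ 2 : k⟦X⟧) (cg b)) * ArSing.y k r := by
    intro b
    conv_lhs => rw [cf_cg b]
    rw [map_add, map_mul, phi_xMap h2 φ hφx, phi_xMap h2 φ hφx, hφy]
  have hxmul : ∀ a : A, cf (ArSing.x k r * a) = X * cf a ∧ cg (ArSing.x k r * a) = X * cg a := by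
    intro a
    refine coord_eq h2 ?_
    conv_lhs => rw [cf_cg a]
    rw [map_mul, map_mul, xMap_X]; ring
  have hspan : Ideal.span (Set.range fun a : A => σ a - a) = Ideal.span {ArSing.x k r} := by
    refine le_antisymm (Ideal.span_le.2 ?_) (Ideal.span_le.2 ?_)
    · rintro _ ⟨a, rfl⟩
      refine Ideal.mem_span_singleton.2 ?_
      show ArSing.x k r ∣ σ a - a
      have hc : ∀ f : k⟦X⟧, constantCoeff (rescale (-1) f - f) = 0 := fun f => by
        rw [map_sub, ← coeff_zero_eq_constantCoeff, coeff_rescale, pow_zero, one_mul, sub_self]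
      have e1 := cf_cg (σ a)
      rw [(hσ a).1, (hσ a).2] at e1
      rw [show σ a - a = ArSing.xMap k r (rescale (-1) (cf a) - cf a) +
          ArSing.xMap k r (rescale (-1) (cg a) - cg a) * ArSing.y k r by
        rw [map_sub, map_sub]; linear_combination e1 - cf_cg a]
      exact dvd_add (dvd_X_of_const _ (hc _)) (dvd_mul_of_dvd_left (dvd_X_of_const _ (hc _)) _)
    · rintro _ rfl
      have : ArSing.x k r = algebraMap k A (-2⁻¹) * (σ (ArSing.x k r) - ArSing.x k r) := by
        rw [hx]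
        have h21 : algebraMap k A 2⁻¹ * 2 = 1 := by
          rw [← map_ofNat (algebraMap k A) 2, ← map_mul, inv_mul_cancel₀ h2, map_one]
        rw [map_neg]
        linear_combination (-ArSing.x k r) * h21
      rw [this]
      exact Ideal.mul_mem_left _ _ (Ideal.subset_span ⟨_, rfl⟩)
  have hzero : cf (0 : A) = 0 ∧ cg (0 : A) = 0 := coord_eq h2 (by simp)
  have hval : ∀ b : ArSing.ring k (m - 1), val (φ b) = constantCoeff (cf b) := fun b => by
    rw [val, (coord_eq h2 (hφ b)).1, constantCoeff_subst_X_pow two_ne_zero, Algebra.algebraMap_self,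
      RingHom.id_apply]
  refine ⟨fun a => ⟨fun h => ?_, ?_⟩, ⟨?_, ?_⟩, ⟨_, ?_, hspan⟩, ?_⟩
  · obtain ⟨e1, e2⟩ := hσ a
    rw [h] at e1 e2
    refine ⟨ArSing.xMap k (m - 1) (evenPart (cf a)) +
      ArSing.xMap k (m - 1) (evenPart (cg a)) * ArSing.y k (m - 1), ?_⟩
    show φ _ = a
    rw [map_add, map_mul, phi_xMap h2 φ hφx, phi_xMap h2 φ hφx, hφy,
      (rescale_eq_self_iff h2 _).1 e1.symm, (rescale_eq_self_iff h2 _).1 e2.symm]
    exact (cf_cg a).symm
  · rintro ⟨b, rfl⟩
    obtain ⟨e1, e2⟩ := hσ (φ b)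
    obtain ⟨c1, c2⟩ := coord_eq h2 (hφ b)
    have hh : ∀ f : k⟦X⟧, rescale (-1) (subst (X ^ 2 : k⟦X⟧) f) = subst (X ^ 2 : k⟦X⟧) f := by
      intro f
      refine PowerSeries.ext fun j => ?_
      rw [coeff_rescale, coeff_subst_X_pow two_ne_zero]
      split_ifs with hj
      · rw [(even_iff_two_dvd.2 hj).neg_one_pow, one_mul]
      · rw [mul_zero]
    show σ (φ b) = φ b
    exact eq_of_coord h2 (by rw [e1, c1, hh]) (by rw [e2, c2, hh])
  · letI : Algebra (ArSing.ring k (m - 1)) A := φ.toRingHom.toAlgebra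
    show Module.Flat (ArSing.ring k (m - 1)) A
    let L : (ArSing.ring k (m - 1) × ArSing.ring k (m - 1)) →ₗ[ArSing.ring k (m - 1)] A :=
      (Algebra.linearMap _ A).coprod (LinearMap.toSpanSingleton _ A (ArSing.x k r))
    have hL : ∀ p, L p = φ p.1 + φ p.2 * ArSing.x k r := fun p => rfl
    have hLc : ∀ p, cf (L p) = subst (X ^ 2 : k⟦X⟧) (cf p.1) + X * subst (X ^ 2 : k⟦X⟧) (cf p.2) ∧
        cg (L p) = subst (X ^ 2 : k⟦X⟧) (cg p.1) + X * subst (X ^ 2 : k⟦X⟧) (cg p.2) := by
      intro p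
      refine coord_eq h2 ?_
      rw [hL, hφ, hφ]
      simp only [map_add, map_mul, xMap_X]
      ring
    refine Module.Flat.of_linearEquiv (LinearEquiv.ofBijective L ⟨?_, fun a => ?_⟩).symm
    · intro p p' h
      obtain ⟨a₁, a₂⟩ := hLc p
      obtain ⟨b₁, b₂⟩ := hLc p'
      rw [h] at a₁ a₂
      obtain ⟨u₁, u₂⟩ := even_odd_inj (a₁.symm.trans b₁)
      obtain ⟨v₁, v₂⟩ := even_odd_inj (a₂.symm.trans b₂)
      exact Prod.ext (eq_of_coord h2 u₁ v₁) (eq_of_coord h2 u₂ v₂)
    · refine ⟨(ArSing.xMap k (m - 1) (evenPart (cf a)) +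
          ArSing.xMap k (m - 1) (evenPart (cg a)) * ArSing.y k (m - 1),
        ArSing.xMap k (m - 1) (oddPart (cf a)) +
          ArSing.xMap k (m - 1) (oddPart (cg a)) * ArSing.y k (m - 1)), ?_⟩
      obtain ⟨e1, e2⟩ := hLc (ArSing.xMap k (m - 1) (evenPart (cf a)) +
          ArSing.xMap k (m - 1) (evenPart (cg a)) * ArSing.y k (m - 1),
        ArSing.xMap k (m - 1) (oddPart (cf a)) +
          ArSing.xMap k (m - 1) (oddPart (cg a)) * ArSing.y k (m - 1))
      refine eq_of_coord h2 ?_ ?_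
      · rw [e1, (coord_eq (r := m - 1) h2 rfl).1, (coord_eq (r := m - 1) h2 rfl).1, even_add_odd]
      · rw [e2, (coord_eq (r := m - 1) h2 rfl).2, (coord_eq (r := m - 1) h2 rfl).2, even_add_odd]
  · intro I hI htop
    have hle : Ideal.map φ I ≤ Ideal.span {a : A | val a = 0} := by
      refine Ideal.map_le_iff_le_comap.2 fun b hb => ?_
      refine Ideal.mem_comap.2 (Ideal.subset_span ?_)
      show val (φ b) = 0
      by_contra h
      refine hI.ne_top (Ideal.eq_top_of_isUnit_mem I hb ?_)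
      -- an element that does not vanish at the origin is a unit
      obtain ⟨e, he⟩ : ∃ e, cf b * e = 1 :=
        ⟨(cf b)⁻¹, PowerSeries.mul_inv_cancel _ (by rwa [← hval])⟩
      have hsq : (cf b) ^ 2 - (cg b) ^ 2 * X ^ (m - 1 + 1) ≠ 0 ∧
          constantCoeff ((cf b) ^ 2 - (cg b) ^ 2 * X ^ (m - 1 + 1)) ≠ 0 := by
        have : constantCoeff ((cf b) ^ 2 - (cg b) ^ 2 * X ^ (m - 1 + 1)) ≠ 0 := by
          simpa [hval] using h
        exact ⟨fun h0 => this (by rw [h0, map_zero]), this⟩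
      have hu : IsUnit (ArSing.xMap k (m - 1) ((cf b) ^ 2 - (cg b) ^ 2 * X ^ (m - 1 + 1))) :=
        (isUnit_iff_constantCoeff.2 (isUnit_iff_ne_zero.2 hsq.2)).map _
      refine isUnit_of_dvd_unit ⟨ArSing.xMap k (m - 1) (cf b) -
        ArSing.xMap k (m - 1) (cg b) * ArSing.y k (m - 1), ?_⟩ hu
      rw [map_sub, map_pow, map_mul, map_pow, map_pow, xMap_X, ← y_sq]
      linear_combination (-(ArSing.xMap k (m - 1) (cf b) -
        ArSing.xMap k (m - 1) (cg b) * ArSing.y k (m - 1))) * cf_cg b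
    rw [htop, top_le_iff] at hle
    have := span_le_val h2 hr1 (fun a (ha : a ∈ {a : A | val a = 0}) => ha)
      (show (1 : A) ∈ Ideal.span {a : A | val a = 0} by rw [hle]; trivial)
    rw [val, (coord_eq h2 (show (1 : A) = ArSing.xMap k r 1 + ArSing.xMap k r 0 * ArSing.y k r by simp)).1,
      map_one] at this
    exact one_ne_zero this
  · refine mem_nonZeroDivisors_iff_right.2 fun a ha => ?_
    obtain ⟨e1, e2⟩ := hxmul a
    rw [mul_comm, ha, hzero.1] at e1
    rw [mul_comm, ha, hzero.2] at e2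
    exact eq_of_coord h2 (by rw [hzero.1, (mul_eq_zero.1 e1.symm).resolve_left X_ne_zero])
      (by rw [hzero.2, (mul_eq_zero.1 e2.symm).resolve_left X_ne_zero])
  · rw [hspan]
    let J : Ideal k⟦X⟧ := Ideal.span {X ^ 2}
    have hX : Ideal.Quotient.mk J (X ^ 2) = 0 :=
      Ideal.Quotient.eq_zero_iff_mem.2 (Ideal.mem_span_singleton_self _)
    let hs := hasSubst_pair (σ := Unit) (F := (0 : k⟦X⟧)) (G := (X : k⟦X⟧)) (map_zero _) constantCoeff_X
    let ψ : A →ₐ[k] (k⟦X⟧ ⧸ J) :=
      Ideal.Quotient.liftₐ _ ((Ideal.Quotient.mkₐ k J).comp (MvPowerSeries.substAlgHom hs))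
        fun z hz => by
          obtain ⟨c, rfl⟩ := Ideal.mem_span_singleton'.1 hz
          rw [map_mul, AlgHom.comp_apply, AlgHom.comp_apply]
          show _ * Ideal.Quotient.mk J
            (MvPowerSeries.substAlgHom hs (MvPowerSeries.X 1 ^ 2 - MvPowerSeries.X 0 ^ (r + 1))) = 0
          rw [map_sub, map_pow, map_pow, MvPowerSeries.substAlgHom_X, MvPowerSeries.substAlgHom_X]
          have h0 : Ideal.Quotient.mk J ((X : k⟦X⟧) ^ 2 - 0 ^ (r + 1)) = 0 := by
            rw [zero_pow (by omega), sub_zero, hX]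
          exact (congrArg _ h0).trans (mul_zero _)
    have hψx : ψ (ArSing.x k r) = 0 :=
      (congrArg (Ideal.Quotient.mk J) (MvPowerSeries.substAlgHom_X hs 0)).trans (map_zero _)
    have hψy : ψ (ArSing.y k r) = Ideal.Quotient.mk J X :=
      congrArg (Ideal.Quotient.mk J) (MvPowerSeries.substAlgHom_X hs 1)
    have hψc : ∀ f, ψ (ArSing.xMap k r f) = Ideal.Quotient.mk J (C (constantCoeff f)) := by
      intro f
      obtain ⟨g, hg⟩ : (X : k⟦X⟧) ∣ f - C (constantCoeff f) := X_dvd_iff.2 (by simp)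
      conv_lhs => rw [show f = C (constantCoeff f) + X * g by rw [← hg]; ring, map_add, map_mul,
        map_add, map_mul, xMap_X, hψx, zero_mul, add_zero]
      exact (ψ.comp (ArSing.xMap k r)).commutes _
    have hψa : ∀ a, ψ a = Ideal.Quotient.mk J (C (val a) + C (lin a).2 * X) := fun a => by
      conv_lhs => rw [cf_cg a, map_add, map_mul, hψc, hψc, hψy, ← map_mul, ← map_add]
      rfl
    refine length_quotient_eq (Ideal.span {ArSing.x k r}) 2 ψ (fun z => ?_) fun a => ?_
    · obtain ⟨f, rfl⟩ := Ideal.Quotient.mk_surjective z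
      refine ⟨ArSing.xMap k r (C (constantCoeff f)) + ArSing.xMap k r (C (coeff 1 f)) * ArSing.y k r, ?_⟩
      rw [map_add, map_mul, hψc, hψc, hψy, ← map_mul, ← map_add, constantCoeff_C, constantCoeff_C,
        Ideal.Quotient.mk_eq_mk_iff_sub_mem, Ideal.mem_span_singleton, X_pow_dvd_iff]
      intro i hi
      interval_cases i <;> simp
    · constructor
      · intro h
        rw [hψa, Ideal.Quotient.eq_zero_iff_mem, Ideal.mem_span_singleton, X_pow_dvd_iff] at h
        have v0 := h 0 (by omega)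
        have v1 := h 1 (by omega)
        simp only [map_add, coeff_zero_eq_constantCoeff, constantCoeff_C, map_mul, constantCoeff_X,
          mul_zero, add_zero] at v0
        rw [map_add, coeff_C, if_neg one_ne_zero, coeff_C_mul, coeff_one_X, mul_one, zero_add] at v1
        rw [Ideal.mem_span_singleton, cf_cg a]
        exact dvd_add (dvd_X_of_const _ v0) (dvd_mul_of_dvd_left (dvd_X_of_const _ v1) _)
      · intro h
        obtain ⟨d, rfl⟩ := Ideal.mem_span_singleton'.1 h
        rw [map_mul, hψx, mul_zero]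

include h2 in
/-- Quotient by `x ↦ -x`, `y ↦ -y`. -/
theorem inv_neg_xy (m : ℕ) (hm : 1 ≤ m) (hr : r = 2 * m - 1) (σ : A ≃ₐ[k] A)
    (hx : σ (ArSing.x k r) = -ArSing.x k r) (hy : σ (ArSing.y k r) = -ArSing.y k r)
    (φ : ArSing.ring k m →ₐ[k] A) (hφx : φ (ArSing.x k m) = ArSing.x k r ^ 2)
    (hφy : φ (ArSing.y k m) = ArSing.x k r * ArSing.y k r) :
    (∀ a : A, σ a = a ↔ a ∈ φ.range) ∧ Function.Injective φ ∧ ¬ φ.toRingHom.Flat ∧
      Module.length A (A ⧸ Ideal.span (Set.range fun a : A => σ a - a)) = 1 ∧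
      ¬ (∃ g : A, g ∈ nonZeroDivisors A ∧
        Ideal.span (Set.range fun a : A => σ a - a) = Ideal.span {g}) := by
  have hr1 : 1 ≤ r := by omega
  have hσ : ∀ a : A, cf (σ a) = rescale (-1) (cf a) ∧ cg (σ a) = -rescale (-1) (cg a) := by
    intro a
    have := coord_neg_x h2 (-1) σ hx (by rw [neg_one_smul]; exact hy) a
    rwa [map_neg, map_one, neg_one_mul] at this
  have hφ : ∀ b, φ b = ArSing.xMap k r (subst (X ^ 2 : k⟦X⟧) (cf b)) +
      ArSing.xMap k r (X * subst (X ^ 2 : k⟦X⟧) (cg b)) * ArSing.y k r := by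
    intro b
    conv_lhs => rw [cf_cg b]
    rw [map_add, map_mul, phi_xMap h2 φ hφx, phi_xMap h2 φ hφx, hφy, map_mul, xMap_X]
    ring
  have hlin : ∀ b, lin (φ b) = 0 ∧ val (φ b) = constantCoeff (cf b) := fun b => by
    obtain ⟨c1, c2⟩ := coord_eq h2 (hφ b)
    refine ⟨Prod.ext ?_ ?_, ?_⟩
    · show coeff 1 (cf (φ b)) = 0
      rw [c1, coeff_subst_X_pow two_ne_zero, if_neg (by omega)]
    · show constantCoeff (cg (φ b)) = 0
      rw [c2, map_mul, constantCoeff_X, zero_mul]
    · rw [val, c1, constantCoeff_subst_X_pow two_ne_zero, Algebra.algebraMap_self, RingHom.id_apply]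
  have hxy : val (ArSing.x k r) = 0 ∧ lin (ArSing.x k r) = (1, 0) ∧
      val (ArSing.y k r) = 0 ∧ lin (ArSing.y k r) = (0, 1) := by
    simp [val, lin, (coord_x (r := r) h2).1, (coord_x (r := r) h2).2, (coord_y (r := r) h2).1,
      (coord_y (r := r) h2).2]
  let S : Set A := Set.range fun a : A => σ a - a
  have hsx : ArSing.x k r ∈ Ideal.span S ∧ ArSing.y k r ∈ Ideal.span S := by
    constructor
    all_goals
      have h21 : algebraMap k A 2⁻¹ * 2 = 1 := by
        rw [← map_ofNat (algebraMap k A) 2, ← map_mul, inv_mul_cancel₀ h2, map_one]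
    · rw [show ArSing.x k r = algebraMap k A (-2⁻¹) * (σ (ArSing.x k r) - ArSing.x k r) by
        rw [hx, map_neg]; linear_combination (-ArSing.x k r) * h21]
      exact Ideal.mul_mem_left _ _ (Ideal.subset_span ⟨_, rfl⟩)
    · rw [show ArSing.y k r = algebraMap k A (-2⁻¹) * (σ (ArSing.y k r) - ArSing.y k r) by
        rw [hy, map_neg]; linear_combination (-ArSing.y k r) * h21]
      exact Ideal.mul_mem_left _ _ (Ideal.subset_span ⟨_, rfl⟩)
  have hS : ∀ a ∈ S, val a = 0 := by
    rintro _ ⟨a, rfl⟩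
    have e : σ a = (σ a - a) + a := by ring
    have := congrArg val e
    rw [val, (hσ a).1, ← coeff_zero_eq_constantCoeff, coeff_rescale, pow_zero, one_mul] at this
    simp only [val, (add_coord h2 _ _).1, map_add, coeff_zero_eq_constantCoeff] at this ⊢
    linear_combination -this
  refine ⟨fun a => ⟨fun h => ?_, ?_⟩, ?_, ?_, ?_, ?_⟩
  · obtain ⟨e1, e2⟩ := hσ a
    rw [h] at e1 e2
    refine ⟨ArSing.xMap k m (evenPart (cf a)) + ArSing.xMap k m (oddPart (cg a)) * ArSing.y k m, ?_⟩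
    show φ _ = a
    rw [map_add, map_mul, phi_xMap h2 φ hφx, phi_xMap h2 φ hφx, hφy,
      (rescale_eq_self_iff h2 _).1 e1.symm]
    conv_rhs => rw [cf_cg a, ← (rescale_eq_neg_iff h2 _).1 e2.symm, map_mul, xMap_X]
    ring
  · rintro ⟨b, rfl⟩
    obtain ⟨e1, e2⟩ := hσ (φ b)
    obtain ⟨c1, c2⟩ := coord_eq h2 (hφ b)
    have hh : ∀ f : k⟦X⟧, rescale (-1) (subst (X ^ 2 : k⟦X⟧) f) = subst (X ^ 2 : k⟦X⟧) f := by
      intro f
      refine PowerSeries.ext fun j => ?_
      rw [coeff_rescale, coeff_subst_X_pow two_ne_zero]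
      split_ifs with hj
      · rw [(even_iff_two_dvd.2 hj).neg_one_pow, one_mul]
      · rw [mul_zero]
    show σ (φ b) = φ b
    refine eq_of_coord h2 (by rw [e1, c1, hh]) ?_
    rw [e2, c2, map_mul, hh, show rescale (-1 : k) X = -X by
      refine PowerSeries.ext fun j => ?_
      rw [coeff_rescale, map_neg, coeff_X]
      split_ifs with hj
      · subst hj; norm_num
      · simp]
    ring
  · intro b b' h
    obtain ⟨c1, c2⟩ := coord_eq h2 (hφ b)
    obtain ⟨d1, d2⟩ := coord_eq h2 (hφ b')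
    rw [h] at c1 c2
    refine eq_of_coord h2 ?_ ?_
    · refine PowerSeries.ext fun i => ?_
      have := congrArg (coeff (2 * i)) (c1.symm.trans d1)
      simpa [coeff_subst_X_pow two_ne_zero, Nat.mul_div_cancel_left i two_pos] using this
    · refine PowerSeries.ext fun i => ?_
      have := congrArg (coeff (2 * i)) (mul_left_cancel₀ X_ne_zero (c2.symm.trans d2))
      simpa [coeff_subst_X_pow two_ne_zero, Nat.mul_div_cancel_left i two_pos] using this
  · intro hflat
    letI : Algebra (ArSing.ring k m) A := φ.toRingHom.toAlgebra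
    haveI : Module.Flat (ArSing.ring k m) A := hflat
    obtain ⟨n, a, z, hz, ha⟩ := Module.Flat.isTrivialRelation_of_sum_smul_eq_zero
      (f := ![ArSing.x k m, ArSing.y k m]) (x := ![ArSing.y k r, -ArSing.x k r]) (M := A)
      (by
        rw [Fin.sum_univ_two, Algebra.smul_def, Algebra.smul_def]
        show φ (ArSing.x k m) * ArSing.y k r + φ (ArSing.y k m) * -ArSing.x k r = 0
        rw [hφx, hφy]; ring)
    have ha0 : ∀ j, constantCoeff (cf (a 0 j)) = 0 := by
      intro j
      have hj := ha j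
      rw [Fin.sum_univ_two] at hj
      have e := congrArg (fun t => (lin t).1) hj
      simp only [Matrix.cons_val_zero, Matrix.cons_val_one] at e
      have hm1 : 1 ≤ m := hm
      obtain ⟨v0, l0⟩ := lin_val_mul h2 hm1 (ArSing.x k m) (a 0 j)
      obtain ⟨v1, l1⟩ := lin_val_mul h2 hm1 (ArSing.y k m) (a 1 j)
      rw [lin_add h2, Prod.fst_add, l0, l1,
        show lin (0 : ArSing.ring k m) = (0, 0) by
          have := coord_eq (r := m) h2 (show (0 : ArSing.ring k m) =
            ArSing.xMap k m 0 + ArSing.xMap k m 0 * ArSing.y k m by simp)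
          simp [lin, this.1, this.2]] at e
      simpa [lin, val, (coord_x (r := m) h2).1, (coord_y (r := m) h2).1] using e
    have : lin (ArSing.y k r) = 0 := by
      rw [show ArSing.y k r = _ from hz 0]
      refine lin_sum h2 _ _ fun j _ => ?_
      rw [Algebra.smul_def]
      show lin (φ (a 0 j) * z j) = 0
      rw [(lin_val_mul h2 hr1 _ _).2, (hlin _).2, ha0, (hlin _).1]
      simp
    rw [hxy.2.2.2] at this
    simp at this
  · let J : Ideal k⟦X⟧ := Ideal.span {X ^ 1}
    let ψ : A →ₐ[k] (k⟦X⟧ ⧸ J) := (Ideal.Quotient.mkₐ k J).comp (pt r)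
    have hψ : ∀ a, ψ a = Ideal.Quotient.mk J (C (val a)) := by
      intro a
      show Ideal.Quotient.mk J (pt r a) = _
      congr 1
      have h := algHom_ext_X (f := (pt r).comp (ArSing.xMap k r)) (g := sb 0 (map_zero _))
        (by simp [xMap_X, pt])
      conv_lhs => rw [cf_cg a, map_add, map_mul, show pt r (ArSing.y k r) = 0 from toPS_y .., mul_zero,
        add_zero, ← AlgHom.comp_apply, h, sb_apply]
      rw [subst_zero_eq_C_constantCoeff]
      rfl
    refine (length_quotient_eq (Ideal.span S) 1 ψ (fun z => ?_) fun a => ?_).trans Nat.cast_one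
    · obtain ⟨f, rfl⟩ := Ideal.Quotient.mk_surjective z
      refine ⟨ArSing.xMap k r f, ?_⟩
      rw [hψ, val, (coord_xMap h2 f).1, Ideal.Quotient.mk_eq_mk_iff_sub_mem,
        Ideal.mem_span_singleton, pow_one, X_dvd_iff]
      simp
    · rw [hψ, Ideal.Quotient.eq_zero_iff_mem, Ideal.mem_span_singleton, pow_one, X_dvd_iff,
        constantCoeff_C]
      exact ⟨quotient_smul_mem h2 hr1 hsx.1 hsx.2, span_le_val h2 hr1 hS⟩
  · rintro ⟨g, -, hg⟩
    have hg0 : val g = 0 :=
      span_le_val h2 hr1 hS (show g ∈ Ideal.span S by rw [hg]; exact Ideal.mem_span_singleton_self g)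
    obtain ⟨hxS, hyS⟩ := hsx
    rw [hg, Ideal.mem_span_singleton'] at hxS hyS
    obtain ⟨c, hc⟩ := hxS
    obtain ⟨d, hd⟩ := hyS
    have ec := congrArg lin hc
    have ed := congrArg lin hd
    rw [(lin_val_mul h2 hr1 c g).2, hxy.2.1, hg0] at ec
    rw [(lin_val_mul h2 hr1 d g).2, hxy.2.2.2, hg0] at ed
    simp only [mul_zero, add_zero, Prod.mk.injEq] at ec ed
    rcases mul_eq_zero.1 ec.2 with h | h
    · rw [h, zero_mul] at ec; exact zero_ne_one ec.1
    · rw [h, mul_zero] at ed; exact zero_ne_one ed.2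

end Groth.Agent.ArNF
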