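import Mathlib

/-! Endomorphisms of the power series algebra in one variable. -/

set_option autoImplicit false
set_option linter.all false
universe u

noncomputable section

namespace Groth.Agent.ArNF

open PowerSeries

variable {k : Type u} [Field k]

/-- An algebra endomorphism of `k⟦X⟧` maps `X` into the maximal ideal. -/
theorem constantCoeff_map_X (f : k⟦X⟧ →ₐ[k] k⟦X⟧) : constantCoeff (f X) = 0 := by
  by_contra h
  have hu : IsUnit (X - C (constantCoeff (f X)) : k⟦X⟧) := by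
    rw [isUnit_iff_constantCoeff]
    simpa using h
  have := isUnit_iff_constantCoeff.1 (hu.map f)
  have hC : f (C (constantCoeff (f X))) = C (constantCoeff (f X)) := f.commutes _
  rw [map_sub, hC, map_sub, constantCoeff_C, sub_self] at this
  exact not_isUnit_zero this

theorem algHom_ext_X {f g : k⟦X⟧ →ₐ[k] k⟦X⟧} (h : f X = g X) : f = g := by
  refine AlgHom.ext fun F => PowerSeries.ext fun N => ?_
  obtain ⟨G, hG⟩ : ∃ G : k⟦X⟧, F = X ^ (N + 1) * G + ((trunc (N + 1) F : Polynomial k) : k⟦X⟧) :=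
    ⟨_, eq_X_pow_mul_shift_add_trunc (N + 1) F⟩
  have hp : ∀ p : Polynomial k, f (p : k⟦X⟧) = g (p : k⟦X⟧) := by
    intro p
    induction p using Polynomial.induction_on' with
    | add p q hp hq => rw [Polynomial.coe_add, map_add, map_add, hp, hq]
    | monomial n a =>
      rw [Polynomial.coe_monomial, monomial_eq_C_mul_X_pow, map_mul, map_mul, map_pow, map_pow, h]
      congr 1
      exact (f.commutes a).trans (g.commutes a).symm
  have hd : ∀ φ : k⟦X⟧ →ₐ[k] k⟦X⟧, (X : k⟦X⟧) ^ (N + 1) ∣ φ (X ^ (N + 1) * G) := fun φ => by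
    rw [map_mul, map_pow]
    exact dvd_mul_of_dvd_left (pow_dvd_pow_of_dvd (X_dvd_iff.2 (constantCoeff_map_X φ)) _) _
  rw [hG, map_add f, map_add g, hp, map_add (coeff N), map_add (coeff N),
    X_pow_dvd_iff.1 (hd f) N (by omega), X_pow_dvd_iff.1 (hd g) N (by omega)]

/-- Substitution of `w` for `X`. -/
def sb (w : k⟦X⟧) (hw : constantCoeff w = 0) : k⟦X⟧ →ₐ[k] k⟦X⟧ :=
  substAlgHom (HasSubst.of_constantCoeff_zero' hw)

theorem sb_apply (w : k⟦X⟧) (hw : constantCoeff w = 0) (f : k⟦X⟧) :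
    sb w hw f = subst w f := congrFun (coe_substAlgHom _) f

@[simp] theorem sb_X (w : k⟦X⟧) (hw : constantCoeff w = 0) : sb w hw X = w := substAlgHom_X _

theorem eq_sb (f : k⟦X⟧ →ₐ[k] k⟦X⟧) : f = sb (f X) (constantCoeff_map_X f) :=
  algHom_ext_X (sb_X _ _).symm

theorem sb_comp (f : k⟦X⟧ →ₐ[k] k⟦X⟧) (w : k⟦X⟧) (hw : constantCoeff w = 0) :
    f.comp (sb w hw) = sb (f w) (by
      have := constantCoeff_map_X (f.comp (sb w hw))
      rwa [AlgHom.comp_apply, sb_X] at this) :=
  algHom_ext_X (by simp)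

theorem eq_id_of_map_X (f : k⟦X⟧ →ₐ[k] k⟦X⟧) (h : f X = X) (g : k⟦X⟧) : f g = g :=
  AlgHom.congr_fun (algHom_ext_X (g := AlgHom.id k _) h) g

variable (w : k⟦X⟧) (hw : constantCoeff w = 0)

theorem constantCoeff_sb (f : k⟦X⟧) : constantCoeff (sb w hw f) = constantCoeff f := by
  obtain ⟨g, hg⟩ : (X : k⟦X⟧) ∣ f - C (constantCoeff f) := X_dvd_iff.2 (by simp)
  rw [show f = C (constantCoeff f) + X * g by rw [← hg]; ring, map_add,
    show sb w hw (C (constantCoeff f)) = C (constantCoeff f) from (sb w hw).commutes _,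
    map_mul, sb_X]
  simp [hw]

theorem dvd_sb {f : k⟦X⟧} {j : ℕ} (h : (X : k⟦X⟧) ^ j ∣ f) : (X : k⟦X⟧) ^ j ∣ sb w hw f := by
  obtain ⟨g, rfl⟩ := h
  rw [map_mul, map_pow, sb_X]
  exact dvd_mul_of_dvd_left (pow_dvd_pow_of_dvd (X_dvd_iff.2 hw) _) _

/-- The leading coefficient of a substitution. -/
theorem coeff_sb_of_dvd {f : k⟦X⟧} {j : ℕ} (h : (X : k⟦X⟧) ^ j ∣ f) :
    coeff j (sb w hw f) = coeff j f * coeff 1 w ^ j := by
  obtain ⟨g, rfl⟩ := h
  obtain ⟨u, rfl⟩ := X_dvd_iff.2 hw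
  rw [map_mul (sb _ hw), map_pow, sb_X, mul_pow, mul_assoc, coeff_X_pow_mul', if_pos le_rfl,
    coeff_X_pow_mul', if_pos le_rfl, Nat.sub_self, coeff_zero_eq_constantCoeff, map_mul, map_pow,
    constantCoeff_sb, ← pow_one (X : k⟦X⟧), coeff_X_pow_mul', if_pos le_rfl, Nat.sub_self,
    coeff_zero_eq_constantCoeff, mul_comm]

theorem coeff_one_sb (f : k⟦X⟧) (hf : constantCoeff f = 0) :
    coeff 1 (sb w hw f) = coeff 1 f * coeff 1 w := by
  rw [coeff_sb_of_dvd w hw (j := 1) (by rw [pow_one]; exact X_dvd_iff.2 hf), pow_one]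

/-- A substitution with non-zero linear coefficient is bijective. -/
theorem sb_bijective (h1 : coeff 1 w ≠ 0) : Function.Bijective (sb w hw) := by
  let w' : k⟦X⟧ := substInvOfIsUnit w (Ne.isUnit h1)
  have hw' : constantCoeff w' = 0 := constantCoeff_substInvOfIsUnit _ _
  have e1 : sb w' hw' w = X := by
    rw [sb_apply]; exact subst_substInvOfIsUnit_right w hw _
  have e2 : sb w hw w' = X := by
    rw [sb_apply]; exact subst_substInvOfIsUnit_left w hw _
  refine ⟨Function.LeftInverse.injective (g := sb w' hw') fun f => ?_,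
    Function.RightInverse.surjective (g := sb w' hw') fun f => ?_⟩
  · exact eq_id_of_map_X ((sb w' hw').comp (sb w hw)) (by simp [e1]) f
  · exact eq_id_of_map_X ((sb w hw).comp (sb w' hw')) (by simp [e2]) f

theorem dvd_of_dvd_sb (h1 : coeff 1 w ≠ 0) {f : k⟦X⟧} {j : ℕ}
    (h : (X : k⟦X⟧) ^ j ∣ sb w hw f) : (X : k⟦X⟧) ^ j ∣ f := by
  induction j with
  | zero => simp
  | succ j ih =>
    have hj := ih ((pow_dvd_pow X (Nat.le_succ j)).trans h)
    refine X_pow_dvd_iff.2 fun m hm => ?_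
    rcases Nat.lt_or_ge m j with hmj | hmj
    · exact X_pow_dvd_iff.1 hj m hmj
    · obtain rfl : m = j := by omega
      have := X_pow_dvd_iff.1 h m hm
      rw [coeff_sb_of_dvd w hw hj] at this
      exact (mul_eq_zero.1 this).resolve_right (pow_ne_zero _ h1)

theorem coeff_one_ne_zero_of_surjective (h : Function.Surjective (sb w hw)) : coeff 1 w ≠ 0 := by
  intro h1
  obtain ⟨f, hf⟩ := h X
  have h0 : constantCoeff f = 0 := by
    rw [← constantCoeff_sb w hw f, hf, constantCoeff_X]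
  have := coeff_one_sb w hw f h0
  rw [hf, h1, coeff_one_X, mul_zero] at this
  exact one_ne_zero this

/-- An involution whose linear coefficient is `1` is the identity. -/
theorem involution_eq_X (h2 : (2 : k) ≠ 0) (hinv : sb w hw w = X) (h1 : coeff 1 w = 1) :
    w = X := by
  let U : k⟦X⟧ := C (2⁻¹ : k) * (X + w)
  have hU : constantCoeff U = 0 := by simp [U, hw]
  have hU1 : coeff 1 U ≠ 0 := by
    simp only [U, coeff_C_mul, map_add, coeff_one_X, h1]
    exact mul_ne_zero (inv_ne_zero h2) (by rw [one_add_one_eq_two]; exact h2)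
  have hτU : sb w hw U = U := by
    show sb w hw (C (2⁻¹ : k) * (X + w)) = _
    rw [map_mul, map_add, sb_X, hinv, add_comm w X]
    congr 1
    exact (sb w hw).commutes _
  obtain ⟨g, hg⟩ := (sb_bijective U hU hU1).2 X
  have := AlgHom.congr_fun (sb_comp (sb w hw) U hU) g
  rw [AlgHom.comp_apply, hg, sb_X] at this
  rw [this]
  have e : sb (sb w hw U) (by rw [hτU]; exact hU) g = sb U hU g := by
    congr 2
  rw [e, hg]

theorem involution_coeff_one (hinv : sb w hw w = X) : coeff 1 w = 1 ∨ coeff 1 w = -1 := by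
  have := congrArg (coeff 1) hinv
  rw [coeff_one_sb w hw w hw, coeff_one_X] at this
  exact mul_self_eq_one_iff.1 this

end Groth.Agent.ArNF
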