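import Groth.Prelude.Def_W4c1arstab1appArSing
import Groth.Agent.ArNF.PS

/-! The algebra `k⟦x, y⟧/(y² - x^n)`: decomposition, homomorphisms to and from it. -/

set_option autoImplicit false
set_option linter.all false
universe u

noncomputable section

namespace Groth.Agent.ArNF

open PowerSeries

variable {k : Type u} [Field k] (r : ℕ)

local notation "A" => ArSing.ring k r
local notation "Mk" => Ideal.Quotient.mk (Ideal.span ({ArSing.eqn k r} : Set (MvPowerSeries (Fin 2) k)))

theorem y_sq : ArSing.y k r ^ 2 = ArSing.x k r ^ (r + 1) := by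
  rw [← map_pow, ← map_pow, Ideal.Quotient.mk_eq_mk_iff_sub_mem]
  exact Ideal.mem_span_singleton_self _

theorem xMap_X : ArSing.xMap k r X = ArSing.x k r := by
  simp only [ArSing.xMap, AlgHom.comp_apply, substAlgHom_X]
  rfl

theorem xMap_apply (f : k⟦X⟧) :
    ArSing.xMap k r f = Mk (subst (MvPowerSeries.X (0 : Fin 2)) f) := by
  simp only [ArSing.xMap, AlgHom.comp_apply, coe_substAlgHom]
  rfl

/-- Every element is `f(x) + g(x) y`. -/
theorem exists_decomp (a : A) :
    ∃ f g : k⟦X⟧, a = ArSing.xMap k r f + ArSing.xMap k r g * ArSing.y k r := by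
  obtain ⟨F, rfl⟩ := Ideal.Quotient.mk_surjective a
  let n := r + 1
  let e : ℕ → ℕ → Fin 2 →₀ ℕ := fun i j => Finsupp.single 0 i + Finsupp.single 1 j
  let cF : ℕ → ℕ → k := fun i j => MvPowerSeries.coeff (e i j) F
  let S : ℕ → ℕ → k := fun i j => ∑ m ∈ Finset.range (i + 1),
    if n * m ≤ i then cF (i - n * m) (j + 2 * m) else 0
  let Q : MvPowerSeries (Fin 2) k := fun d => S (d 0) (d 1 + 2)
  have hQ : ∀ d, MvPowerSeries.coeff d Q = S (d 0) (d 1 + 2) := fun d => rfl
  refine ⟨PowerSeries.mk fun i => S i 0, PowerSeries.mk fun i => S i 1, ?_⟩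
  have key : F = subst (MvPowerSeries.X (0 : Fin 2)) (PowerSeries.mk fun i => S i 0) +
      subst (MvPowerSeries.X (0 : Fin 2)) (PowerSeries.mk fun i => S i 1) *
        MvPowerSeries.X 1 + ArSing.eqn k r * Q := by
    refine MvPowerSeries.ext fun d => ?_
    have hd : d = e (d 0) (d 1) := by
      ext i; fin_cases i <;> simp [e]
    rw [map_add, map_add, ArSing.eqn, sub_mul, map_sub, MvPowerSeries.X_pow_eq,
      MvPowerSeries.X_pow_eq, MvPowerSeries.coeff_monomial_mul, MvPowerSeries.coeff_monomial_mul,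
      MvPowerSeries.X_def 1, MvPowerSeries.coeff_mul_monomial, coeff_subst_single,
      coeff_subst_single, hQ, hQ, coeff_mk, coeff_mk]
    have hsingle : ∀ (v : Fin 2 →₀ ℕ), v = Finsupp.single 0 (v 0) ↔ v 1 = 0 := by
      intro v
      refine ⟨fun h => by rw [h]; simp, fun h => ?_⟩
      ext i; fin_cases i <;> simp [h]
    have hle : ∀ (i : Fin 2) (c : ℕ), Finsupp.single i c ≤ d ↔ c ≤ d i := fun i c =>
      Finsupp.single_le_iff
    have hs1 : d - Finsupp.single 1 1 = Finsupp.single 0 (d 0) ↔ d 1 ≤ 1 := by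
      constructor
      · intro h
        have h' := congrArg (fun v : Fin 2 →₀ ℕ => v 1) h
        simp only [Finsupp.coe_tsub, Pi.sub_apply, Finsupp.single_eq_same,
          Finsupp.single_eq_of_ne (show (1 : Fin 2) ≠ 0 by decide)] at h'
        omega
      · intro h; ext i; fin_cases i <;> simp <;> omega
    simp only [hsingle, hle, one_mul, mul_one, Finsupp.coe_tsub, Pi.sub_apply,
      Finsupp.single_eq_same, Finsupp.single_eq_of_ne (show (0 : Fin 2) ≠ 1 by decide),
      Finsupp.single_eq_of_ne (show (1 : Fin 2) ≠ 0 by decide), Nat.sub_zero, hs1]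
    -- the telescoping identity
    have hS : ∀ i j, S i j = cF i j + (if n ≤ i then S (i - n) (j + 2) else 0) := by
      intro i j
      simp only [S]
      rw [Finset.sum_range_succ' _ i]
      rw [if_pos (show n * 0 ≤ i by simp), Nat.mul_zero, Nat.sub_zero, Nat.mul_zero, Nat.add_zero,
        add_comm]
      congr 1
      by_cases hi : n ≤ i
      · rw [if_pos hi]
        refine (Finset.sum_subset_zero_on_sdiff (Finset.range_mono (by omega)) ?_ ?_).symm
        · intro m hm
          simp only [Finset.mem_sdiff, Finset.mem_range, not_lt] at hm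
          rw [if_neg]
          intro h
          have : n * (m + 1) = n * m + n := Nat.mul_succ n m
          have : m ≤ n * m := Nat.le_mul_of_pos_left m (Nat.succ_pos r)
          omega
        · intro m _
          have : n * (m + 1) = n * m + n := Nat.mul_succ n m
          by_cases h : n * m ≤ i - n
          · rw [if_pos h, if_pos (by omega), show j + 2 + 2 * m = j + 2 * (m + 1) by omega,
              show i - n - n * m = i - n * (m + 1) by omega]
          · rw [if_neg h, if_neg (by omega)]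
      · rw [if_neg hi]
        refine Finset.sum_eq_zero fun m _ => ?_
        rw [if_neg]
        have : n * (m + 1) = n * m + n := Nat.mul_succ n m
        omega
    conv_lhs => rw [hd]
    show cF (d 0) (d 1) = _
    rcases Nat.lt_or_ge (d 1) 1 with h1 | h1
    · have h10 : d 1 = 0 := by omega
      have hz := hS (d 0) 0
      simp only [h10, if_pos, if_neg (show ¬ (1 ≤ 0) by omega), if_neg (show ¬ (2 ≤ 0) by omega)]
      rw [hz]
      split_ifs <;> first | (exfalso; omega) | ring
    · rcases Nat.lt_or_ge (d 1) 2 with h2 | h2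
      · have h11 : d 1 = 1 := by omega
        have hz := hS (d 0) 1
        simp only [h11, if_pos, if_neg (show ¬ (1 = 0) by omega), if_neg (show ¬ (2 ≤ 1) by omega),
          Nat.sub_self, le_refl]
        rw [hz]
        split_ifs <;> first | (exfalso; omega) | ring
      · have hz := hS (d 0) (d 1)
        have e2 : d 1 - 2 + 2 = d 1 := by omega
        simp only [if_neg (show ¬ (d 1 = 0) by omega), if_neg (show ¬ (d 1 - 1 = 0) by omega),
          if_pos h2, e2]
        rw [hz]
        split_ifs <;> first | (exfalso; omega) | ring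
  have h0 : Mk (ArSing.eqn k r * Q) = 0 :=
    Ideal.Quotient.eq_zero_iff_mem.2 (Ideal.mul_mem_right _ _ (Ideal.mem_span_singleton_self _))
  conv_lhs => rw [key, map_add, map_add, map_mul, h0, add_zero]
  rw [xMap_apply, xMap_apply]

theorem constantCoeff_hom_x (f : A →ₐ[k] k⟦X⟧) : constantCoeff (f (ArSing.x k r)) = 0 := by
  have := constantCoeff_map_X (f.comp (ArSing.xMap k r))
  rwa [AlgHom.comp_apply, xMap_X] at this

theorem constantCoeff_hom_y (f : A →ₐ[k] k⟦X⟧) : constantCoeff (f (ArSing.y k r)) = 0 := by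
  have h := congrArg (fun a => constantCoeff (f a)) (y_sq (k := k) r)
  simp only [map_pow, constantCoeff_hom_x, zero_pow (Nat.succ_ne_zero r)] at h
  exact eq_zero_of_pow_eq_zero h

/-- Homomorphisms to `k⟦X⟧` are determined by the images of `x` and `y`. -/
theorem algHom_ext {f g : A →ₐ[k] k⟦X⟧} (hx : f (ArSing.x k r) = g (ArSing.x k r))
    (hy : f (ArSing.y k r) = g (ArSing.y k r)) : f = g := by
  refine AlgHom.ext fun a => ?_
  obtain ⟨F, G, rfl⟩ := exists_decomp r a
  have h : f.comp (ArSing.xMap k r) = g.comp (ArSing.xMap k r) :=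
    algHom_ext_X (by rw [AlgHom.comp_apply, AlgHom.comp_apply, xMap_X, hx])
  rw [map_add f, map_add g, map_mul f, map_mul g, hy]
  rw [show f (ArSing.xMap k r F) = g (ArSing.xMap k r F) from AlgHom.congr_fun h F,
    show f (ArSing.xMap k r G) = g (ArSing.xMap k r G) from AlgHom.congr_fun h G]

theorem hasSubst_pair {σ : Type*} {F G : MvPowerSeries σ k}
    (hF : MvPowerSeries.constantCoeff F = 0) (hG : MvPowerSeries.constantCoeff G = 0) :
    MvPowerSeries.HasSubst (![F, G] : Fin 2 → MvPowerSeries σ k) :=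
  MvPowerSeries.hasSubst_of_constantCoeff_zero (fun i => by fin_cases i; exacts [hF, hG])

/-- The homomorphism `x ↦ a`, `y ↦ b`. -/
def toPS (a b : k⟦X⟧) (ha : constantCoeff a = 0) (hb : constantCoeff b = 0)
    (h : b ^ 2 = a ^ (r + 1)) : A →ₐ[k] k⟦X⟧ :=
  Ideal.Quotient.liftₐ _
    (MvPowerSeries.substAlgHom (a := ![a, b])
      (hasSubst_pair ha hb))
    fun z hz => by
      obtain ⟨c, rfl⟩ := Ideal.mem_span_singleton'.1 hz
      rw [map_mul, ArSing.eqn, map_sub, map_pow, map_pow, MvPowerSeries.substAlgHom_X,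
        MvPowerSeries.substAlgHom_X]
      simp [h]

@[simp] theorem toPS_x (a b : k⟦X⟧) (ha : constantCoeff a = 0) (hb : constantCoeff b = 0)
    (h : b ^ 2 = a ^ (r + 1)) : toPS r a b ha hb h (ArSing.x k r) = a :=
  MvPowerSeries.substAlgHom_X (hasSubst_pair ha hb) 0

@[simp] theorem toPS_y (a b : k⟦X⟧) (ha : constantCoeff a = 0) (hb : constantCoeff b = 0)
    (h : b ^ 2 = a ^ (r + 1)) : toPS r a b ha hb h (ArSing.y k r) = b :=
  MvPowerSeries.substAlgHom_X (hasSubst_pair ha hb) 1

/-- An element killed at the origin lifts to a series without constant term. -/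
theorem exists_lift (f : A →ₐ[k] k⟦X⟧) (a : A) (ha : constantCoeff (f a) = 0) :
    ∃ F : MvPowerSeries (Fin 2) k, Mk F = a ∧ MvPowerSeries.constantCoeff F = 0 := by
  obtain ⟨F, G, rfl⟩ := exists_decomp r a
  refine ⟨subst (MvPowerSeries.X (0 : Fin 2)) F +
    subst (MvPowerSeries.X (0 : Fin 2)) G * MvPowerSeries.X 1, ?_, ?_⟩
  · rw [map_add, map_mul, xMap_apply, xMap_apply]
  · have e : f.comp (ArSing.xMap k r) = sb _ (constantCoeff_hom_x r f) :=
      algHom_ext_X (by rw [AlgHom.comp_apply, xMap_X, sb_X])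
    rw [map_add f, map_mul f, map_add, map_mul, constantCoeff_hom_y, mul_zero, add_zero,
      show f (ArSing.xMap k r F) = sb _ (constantCoeff_hom_x r f) F from AlgHom.congr_fun e F,
      constantCoeff_sb] at ha
    rw [map_add, map_mul, MvPowerSeries.constantCoeff_X, mul_zero, add_zero]
    exact constantCoeff_subst_eq_zero (MvPowerSeries.constantCoeff_X _) _ ha

/-- The endomorphism `x ↦ P`, `y ↦ Q`. -/
theorem exists_endo (f : A →ₐ[k] k⟦X⟧) (P Q : A) (hP : constantCoeff (f P) = 0)
    (hQ : constantCoeff (f Q) = 0) (h : Q ^ 2 = P ^ (r + 1)) :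
    ∃ φ : A →ₐ[k] A, φ (ArSing.x k r) = P ∧ φ (ArSing.y k r) = Q := by
  obtain ⟨F, hF, hF0⟩ := exists_lift r f P hP
  obtain ⟨G, hG, hG0⟩ := exists_lift r f Q hQ
  have hs : MvPowerSeries.HasSubst (![F, G] : Fin 2 → MvPowerSeries (Fin 2) k) :=
    MvPowerSeries.hasSubst_of_constantCoeff_zero (fun i => by fin_cases i; exacts [hF0, hG0])
  refine ⟨Ideal.Quotient.liftₐ _
    ((Ideal.Quotient.mkₐ k _).comp (MvPowerSeries.substAlgHom hs)) fun z hz => ?_, ?_, ?_⟩
  · obtain ⟨c, rfl⟩ := Ideal.mem_span_singleton'.1 hz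
    rw [map_mul, AlgHom.comp_apply, AlgHom.comp_apply]
    show _ * Mk (MvPowerSeries.substAlgHom hs (MvPowerSeries.X 1 ^ 2 - MvPowerSeries.X 0 ^ (r + 1))) = 0
    rw [map_sub, map_pow, map_pow, MvPowerSeries.substAlgHom_X, MvPowerSeries.substAlgHom_X, map_sub, map_pow, map_pow]
    show _ * (Mk G ^ 2 - Mk F ^ (r + 1)) = 0
    rw [hF, hG, h, sub_self, mul_zero]
  · show Mk (MvPowerSeries.substAlgHom hs (MvPowerSeries.X 0)) = P
    rw [MvPowerSeries.substAlgHom_X]; exact hF
  · show Mk (MvPowerSeries.substAlgHom hs (MvPowerSeries.X 1)) = Q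
    rw [MvPowerSeries.substAlgHom_X]; exact hG

end Groth.Agent.ArNF
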